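/-
Suzuki group: summing a class function over the group.
-/
import Cfsg.Agent.Suzuki.TorusCount
import Cfsg.Agent.Char.TI
import Cfsg.Agent.Char.Values

set_option autoImplicit false

namespace CfsgLib.Suzuki

open scoped ComplexConjugate

variable {F : Type*} [Field F] {m : ℕ}

local notation "PP" => Projectivization F (Fin 4 → F)
local notation "G" => SzG F m

/-- The number of fixed tori of order `k`. -/
noncomputable def numTori (F : Type*) [Field F] (m k : ℕ) : ℕ :=
  Nat.card {B : Subgroup (SzG F m) // IsTorus B ∧ Nat.card B = k}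

variable (h : IsSzField F m)

/-- A chosen torus of order `k`. -/
noncomputable def torusRep {k : ℕ} (hk : k ∈ torusOrders m) : Subgroup (SzG F m) :=
  (exists_torus h hk).choose

theorem torusRep_spec {k : ℕ} (hk : k ∈ torusOrders m) :
    IsTorus (torusRep h hk) ∧ Nat.card (torusRep h hk) = k := (exists_torus h hk).choose_spec

theorem numTori_mul {k : ℕ} (hk : k ∈ torusOrders m) (h : IsSzField F m) :
    numTori F m k * (torusWeight m k * k) = Nat.card G := by
  obtain ⟨A, hA, hAk⟩ := exists_torus h hk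
  have e := hA.card_conjugates h
  rw [hAk] at e
  exact e

/-- The nonidentity elements of a subgroup. -/
noncomputable def sharp [Fintype (SzG F m)] (H : Subgroup (SzG F m)) : Finset (SzG F m) := by
  classical exact Finset.univ.filter fun g => g ∈ H ∧ g ≠ 1

omit h in
theorem mem_sharp [Fintype G] {H : Subgroup G} {g : G} : g ∈ sharp H ↔ g ∈ H ∧ g ≠ 1 := by
  simp [sharp]

omit h in
theorem card_sharp [Fintype G] (H : Subgroup G) : (sharp H).card = Nat.card H - 1 := by
  classical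
  rw [Nat.card_eq_fintype_card, Fintype.card_subtype]
  rw [show sharp H = (Finset.univ.filter fun g => g ∈ H).erase 1 by
    ext g; simp [mem_sharp, and_comm]]
  rw [Finset.card_erase_of_mem (by simp [H.one_mem])]

omit h in
theorem sum_sharp_conj [Fintype G] {f : G → ℂ} (hf : Cfsg.IsClassFunction G f) (c : G)
    (H : Subgroup G) : ∑ a ∈ sharp (conjBy c H), f a = ∑ a ∈ sharp H, f a := by
  refine Finset.sum_nbij' (fun a => c⁻¹ * a * c) (fun a => c * a * c⁻¹) ?_ ?_ ?_ ?_ ?_
  · intro a ha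
    rw [mem_sharp] at ha ⊢
    refine ⟨mem_conjBy.1 ha.1, fun e => ha.2 ?_⟩
    calc a = c * (c⁻¹ * a * c) * c⁻¹ := by group
      _ = 1 := by rw [e]; group
  · intro a ha
    rw [mem_sharp] at ha ⊢
    refine ⟨mem_conjBy.2 ?_, fun e => ha.2 (conj_eq_one_iff.1 e)⟩
    rw [show c⁻¹ * (c * a * c⁻¹) * c = a by group]; exact ha.1
  · intro a _; group
  · intro a _; group
  · intro a _
    rw [show c⁻¹ * a * c = c⁻¹ * a * c⁻¹⁻¹ by group, hf]

include h

/-- Summing over the group by types of elements. -/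
theorem sum_classes [Fintype G] {f : G → ℂ} (hf : Cfsg.IsClassFunction G f) :
    ∑ g, f g = f 1 + ((Nat.card F ^ 2 + 1 : ℕ) : ℂ) * (∑ u ∈ sharp (unip h), f u) +
      ((numTori F m (2 ^ (2 * m + 1) - 1) : ℂ) *
          (∑ a ∈ sharp (torusRep h (Set.mem_insert _ _ :
            2 ^ (2 * m + 1) - 1 ∈ torusOrders m)), f a) +
        ((numTori F m (2 ^ (2 * m + 1) + 2 ^ (m + 1) + 1) : ℂ) *
            (∑ a ∈ sharp (torusRep h (Set.mem_insert_of_mem _ (Set.mem_insert _ _) :
              2 ^ (2 * m + 1) + 2 ^ (m + 1) + 1 ∈ torusOrders m)), f a) +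
          (numTori F m (2 ^ (2 * m + 1) - 2 ^ (m + 1) + 1) : ℂ) *
            (∑ a ∈ sharp (torusRep h (Set.mem_insert_of_mem _ (Set.mem_insert_of_mem _ rfl) :
              2 ^ (2 * m + 1) - 2 ^ (m + 1) + 1 ∈ torusOrders m)), f a))) := by
  classical
  have := h.finite
  have := finite_G h
  let : Fintype (Subgroup G) := Fintype.ofFinite _
  let : Fintype (Cfsg.suzukiOvoid F m) := by
    have := (ovoid_finite h).to_subtype
    exact Fintype.ofFinite _
  choose c hcS hc using fun p : Cfsg.suzukiOvoid F m => exists_move h p.2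
  let cE : Cfsg.suzukiOvoid F m → G := fun p => ⟨c p, hcS p⟩
  have hcE : ∀ p, cE p • inf F = (p : PP) := hc
  set S : Finset G := Finset.univ.biUnion fun p => sharp (conjBy (cE p) (unip h)) with hS
  set T : Finset (Subgroup G) := Finset.univ.filter fun B => IsTorus B with hT
  set R : Finset G := T.biUnion fun B => sharp B with hR
  have hSiff : ∀ g, g ∈ S ↔ g ≠ 1 ∧ ∃ d : G, d * g * d⁻¹ ∈ unip h := by
    intro g
    simp only [hS, Finset.mem_biUnion, Finset.mem_univ, true_and, mem_sharp]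
    constructor
    · rintro ⟨p, hp, hg⟩
      refine ⟨hg, (cE p)⁻¹, ?_⟩
      rw [inv_inv]; exact mem_conjBy.1 hp
    · rintro ⟨hg, d, hd⟩
      refine ⟨⟨d⁻¹ • inf F, smul_mem_ovoid' d⁻¹ inf_mem⟩, ?_, hg⟩
      set k := cE ⟨d⁻¹ • inf F, smul_mem_ovoid' d⁻¹ inf_mem⟩
      have hk : k • inf F = d⁻¹ • inf F := hcE _
      have hb : k⁻¹ * d⁻¹ ∈ borel F m := by rw [mem_borel_iff, mul_smul, ← hk, inv_smul_smul]
      rw [mem_conjBy]
      have := (Subgroup.mem_normalizer_iff.1 (borel_le_normalizer h hb) _).1 hd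
      convert this using 1
      group
  have hRiff : ∀ g, g ∈ R ↔ IsTorusElt g := by
    intro g
    simp only [hR, hT, Finset.mem_biUnion, Finset.mem_filter, Finset.mem_univ, true_and, mem_sharp]
    constructor
    · rintro ⟨B, hB, hg, hg1⟩
      exact (cyclic_torus_eq h hB.1 hB.2 hg hg1).1
    · intro hg
      exact ⟨_, ⟨hg.2.1, hg.2.2⟩, Subgroup.mem_centralizer_singleton_iff.2 rfl, hg.1⟩
  have hu : (Finset.univ : Finset G).erase 1 = S ∪ R := by
    ext g
    simp only [Finset.mem_erase, Finset.mem_univ, and_true, Finset.mem_union, hSiff, hRiff]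
    constructor
    · intro hg
      rcases unip_or_torusElt h hg with e | e
      · exact Or.inl ⟨hg, e⟩
      · exact Or.inr e
    · rintro (e | e)
      · exact e.1
      · exact e.1
  have hdisj : Disjoint S R := by
    rw [Finset.disjoint_left]
    intro g hgS hgR
    obtain ⟨-, d, hd⟩ := (hSiff g).1 hgS
    exact ((hRiff g).1 hgR).not_conj_unip h d hd
  have hSsum : ∑ g ∈ S, f g = ((Nat.card F ^ 2 + 1 : ℕ) : ℂ) * (∑ u ∈ sharp (unip h), f u) := by
    rw [hS, Finset.sum_biUnion, Finset.sum_congr rfl fun p _ => sum_sharp_conj hf (cE p) (unip h),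
      Finset.sum_const, Finset.card_univ, ← Nat.card_eq_fintype_card, card_ovoid, nsmul_eq_mul]
    intro p _ p' _ hne
    show Disjoint (sharp _) (sharp _)
    rw [Finset.disjoint_left]
    intro g hg hg'
    rw [mem_sharp, mem_conjBy] at hg hg'
    apply hne
    have hfix : ∀ r : Cfsg.suzukiOvoid F m, (cE r)⁻¹ * g * cE r ∈ unip h → g • (r : PP) = r := by
      intro r hr
      have e : ((cE r)⁻¹ * g * cE r) • inf F = inf F := unip_le_stab h hr
      rwa [mul_smul, mul_smul, hcE, inv_smul_eq_iff, hcE] at e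
    have hx1 : (cE p)⁻¹ * g * cE p ≠ 1 := fun e => hg.2 (by
      calc g = cE p * ((cE p)⁻¹ * g * cE p) * (cE p)⁻¹ := by group
        _ = 1 := by rw [e]; group)
    have e := eq_inf_of_unip_fix h hg.1 hx1 (p := (cE p)⁻¹ • (p' : PP))
      (smul_mem_ovoid' _ p'.2) (by
        rw [mul_smul, mul_smul, smul_inv_smul, hfix p' hg'.1])
    exact Subtype.ext ((hcE p).symm.trans (inv_smul_eq_iff.1 e).symm)
  have hRsum : ∑ g ∈ R, f g = ∑ B ∈ T, ∑ a ∈ sharp B, f a := by
    rw [hR, Finset.sum_biUnion]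
    intro B hB B' hB' hne
    simp only [hT, Finset.coe_filter, Finset.mem_univ, true_and] at hB hB'
    show Disjoint (sharp _) (sharp _)
    rw [Finset.disjoint_left]
    intro g hg hg'
    rw [mem_sharp] at hg hg'
    exact hne (IsTorus.eq_of_mem h hB hB' hg.1 hg'.1 hg.2)
  have hfib : ∀ (k : ℕ) (hk : k ∈ torusOrders m),
      ∑ B ∈ T.filter (fun B : Subgroup G => Nat.card B = k), ∑ a ∈ sharp B, f a =
        (numTori F m k : ℂ) * ∑ a ∈ sharp (torusRep h hk), f a := by
    intro k hk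
    rw [Finset.sum_congr rfl (g := fun _ => ∑ a ∈ sharp (torusRep h hk), f a) (fun B hB => ?_),
      Finset.sum_const, nsmul_eq_mul]
    · congr 1
      rw [numTori, Nat.card_eq_fintype_card, Fintype.card_subtype, hT, Finset.filter_filter]
    · simp only [hT, Finset.mem_filter, Finset.mem_univ, true_and] at hB
      obtain ⟨d, hd⟩ := (torusRep_spec h hk).1.exists_conj h hB.1
        ((torusRep_spec h hk).2.trans hB.2.symm)
      rw [← hd, sum_sharp_conj hf]
  rw [← Finset.add_sum_erase _ _ (Finset.mem_univ (1 : G)), hu, Finset.sum_union hdisj, hSsum,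
    hRsum, add_assoc]
  congr 2
  obtain ⟨d12, d13, d23⟩ : 2 ^ (2 * m + 1) - 1 ≠ 2 ^ (2 * m + 1) + 2 ^ (m + 1) + 1 ∧
      2 ^ (2 * m + 1) - 1 ≠ 2 ^ (2 * m + 1) - 2 ^ (m + 1) + 1 ∧
      2 ^ (2 * m + 1) + 2 ^ (m + 1) + 1 ≠ 2 ^ (2 * m + 1) - 2 ^ (m + 1) + 1 := by
    have h1 := h.sigma_add_two_lt
    have h2 := h.four_le
    omega
  rw [← Finset.sum_fiberwise_of_maps_to (g := fun B : Subgroup G => Nat.card B)
    (t := {2 ^ (2 * m + 1) - 1, 2 ^ (2 * m + 1) + 2 ^ (m + 1) + 1,
      2 ^ (2 * m + 1) - 2 ^ (m + 1) + 1}) (fun B hB => ?_)]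
  · rw [Finset.sum_insert (by simp only [Finset.mem_insert, Finset.mem_singleton, not_or]; exact ⟨d12, d13⟩),
      Finset.sum_insert (by rw [Finset.mem_singleton]; exact d23),
      Finset.sum_singleton, hfib _ (Set.mem_insert _ _),
      hfib _ (Set.mem_insert_of_mem _ (Set.mem_insert _ _)),
      hfib _ (Set.mem_insert_of_mem _ (Set.mem_insert_of_mem _ rfl))]
  · simp only [hT, Finset.mem_filter, Finset.mem_univ, true_and] at hB
    simpa [torusOrders] using hB.2

/-! ### Orbit sums on a torus -/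

/-- The sum of a function over the normaliser orbit of an element of a torus, as a class
function value. -/
noncomputable def orbSum [Fintype (SzG F m)] (A : Subgroup (SzG F m)) (φ : A → ℂ) (a : SzG F m) : ℂ :=
  (Nat.card A : ℂ)⁻¹ * ∑ n : SzG F m, Cfsg.extendByZero A φ (n⁻¹ * a * n)

omit h in
theorem orbSum_eq_indFun [Fintype G] (A : Subgroup G) (φ : A → ℂ) :
    orbSum A φ = Cfsg.indFun A φ := rfl

/-- Induced functions from a torus at its own elements. -/
theorem indFun_torus_apply [Fintype G] {A : Subgroup G} (hA : IsTorus A)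
    [Fintype (Subgroup.normalizer (A : Set G))] (φ : A → ℂ) {a : G} (ha : a ∈ A) (ha1 : a ≠ 1) :
    Cfsg.indFun A φ a = (Nat.card A : ℂ)⁻¹ *
      ∑ n : Subgroup.normalizer (A : Set G), Cfsg.extendByZero A φ ((n : G)⁻¹ * a * n) := by
  classical
  rw [CfsgLib.Char.indFun_def]
  congr 1
  rw [← Finset.sum_subset (Finset.subset_univ
    (Finset.univ.filter fun x : G => x ∈ Subgroup.normalizer (A : Set G))) ?_]
  · exact Finset.sum_subtype _ (by simp) (fun x => Cfsg.extendByZero A φ (x⁻¹ * a * x))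
  · intro x _ hx
    apply CfsgLib.Char.extendByZero_of_not_mem
    intro hmem
    simp only [Finset.mem_filter, Finset.mem_univ, true_and] at hx
    apply hx
    have hT := (cyclic_torus_eq h hA.1 hA.2 ha ha1).1
    have hC := hA.eq_centralizer h ha ha1
    have h1 : x⁻¹ * a * x⁻¹⁻¹ ∈ A := by rwa [inv_inv]
    rw [← hC] at h1
    have h2 := hT.isTI h x⁻¹ a (Subgroup.mem_centralizer_singleton_iff.2 rfl) ha1 h1
    rw [hC] at h2
    exact inv_mem_iff.1 h2

/-- Induced functions from a torus vanish at elements of other types. -/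
theorem indFun_torus_eq_zero [Fintype G] {A : Subgroup G} (hA : IsTorus A) (φ : A → ℂ) {g : G}
    (hg : g ≠ 1) (hne : ¬ Nat.card (Subgroup.centralizer ({g} : Set G)) = Nat.card A) :
    Cfsg.indFun A φ g = 0 := by
  refine CfsgLib.Char.indFun_eq_zero φ fun x hx => hne ?_
  have h1 : x⁻¹ * g * x ≠ 1 := fun e => hg (by
    calc g = x * (x⁻¹ * g * x) * x⁻¹ := by group
      _ = 1 := by rw [e]; group)
  conv_rhs => rw [← hA.eq_centralizer h hx h1]
  rw [show x⁻¹ * g * x = x⁻¹ * g * x⁻¹⁻¹ by group, ← map_centralizer_singleton]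
  exact (Subgroup.card_map_of_injective (MulAut.conj x⁻¹).injective).symm

theorem orbit_free [Fintype G] {A : Subgroup G} (hA : IsTorus A) {θ : A →* ℂˣ} (hθ : θ ≠ 1)
    {n : G} (hn : n ∈ Subgroup.normalizer (A : Set G))
    (e : ∀ (a : A), θ ⟨n⁻¹ * a * n, (Subgroup.mem_normalizer_iff''.1 hn a).1 a.2⟩ = θ a) :
    n ∈ A := by
  by_contra hnA
  let : CommGroup A := hA.1.commGroup
  let f : A → A := fun a => (⟨n⁻¹ * a * n, (Subgroup.mem_normalizer_iff''.1 hn a).1 a.2⟩ : A) * a⁻¹
  have hf : Function.Injective f := by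
    intro a b hab
    by_contra hne
    apply hnA
    have e1 : n⁻¹ * (a : G) * n * (a : G)⁻¹ = n⁻¹ * (b : G) * n * (b : G)⁻¹ :=
      congrArg Subtype.val hab
    have hcomm : (b : G)⁻¹ * a = a * (b : G)⁻¹ :=
      congrArg Subtype.val (mul_comm (b⁻¹ : A) a)
    have hd1 : (b : G)⁻¹ * a ≠ 1 := fun e => hne (Subtype.ext (inv_mul_eq_one.1 e).symm)
    refine hA.mem_of_commute h (A.mul_mem (A.inv_mem b.2) a.2) hd1 ?_
    have e2 : n⁻¹ * ((b : G)⁻¹ * a) * n = (b : G)⁻¹ * a := by
      calc n⁻¹ * ((b : G)⁻¹ * a) * n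
          = (n⁻¹ * (b : G) * n)⁻¹ * ((n⁻¹ * (a : G) * n * (a : G)⁻¹) * a) := by group
        _ = (b : G)⁻¹ * a := by rw [e1]; group
    calc n * ((b : G)⁻¹ * a) = n * (n⁻¹ * ((b : G)⁻¹ * a) * n) := by rw [e2]
      _ = (b : G)⁻¹ * a * n := by group
  apply hθ
  ext b
  obtain ⟨a, rfl⟩ := Finite.injective_iff_surjective.mp hf b
  simp [f, map_mul, map_inv, e]

/-- The total of an orbit sum. -/
theorem sum_indFun_torus [Fintype G] {A : Subgroup G} (hA : IsTorus A) {θ : A →* ℂˣ}
    (hθ : θ ≠ 1) :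
    ∑ a ∈ sharp A, Cfsg.indFun A (fun x => (θ x : ℂ)) a =
      -(torusWeight m (Nat.card A) : ℂ) := by
  classical
  set N := Subgroup.normalizer (A : Set G)
  let : Fintype N := Fintype.ofFinite N
  have hk : (Nat.card A : ℂ) ≠ 0 := Nat.cast_ne_zero.2 Nat.card_pos.ne'
  rw [Finset.sum_congr rfl fun a ha => indFun_torus_apply h hA _ (mem_sharp.1 ha).1 (mem_sharp.1 ha).2,
    ← Finset.mul_sum, Finset.sum_comm]
  have hinner : ∀ n : N, ∑ a ∈ sharp A,
      Cfsg.extendByZero A (fun x => (θ x : ℂ)) ((n : G)⁻¹ * a * n) = -1 := by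
    intro n
    have hmem : ∀ a ∈ A, (n : G)⁻¹ * a * n ∈ A := fun a ha =>
      (Subgroup.mem_normalizer_iff''.1 n.2 a).1 ha
    let θn : A →* ℂˣ := θ.comp
      { toFun := fun a => ⟨(n : G)⁻¹ * a * n, hmem a a.2⟩
        map_one' := Subtype.ext (by simp)
        map_mul' := fun a b => Subtype.ext (by push_cast; group) }
    have hθn : θn ≠ 1 := fun e => hθ (MonoidHom.ext fun b => by
      have h1 : (n : G) * b * (n : G)⁻¹ ∈ A := (Subgroup.mem_normalizer_iff.1 n.2 _).1 b.2
      have h2 := DFunLike.congr_fun e ⟨_, h1⟩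
      simp only [θn, MonoidHom.comp_apply, MonoidHom.coe_mk, OneHom.coe_mk] at h2
      rw [MonoidHom.one_apply] at h2 ⊢
      rw [← h2]
      congr 1
      ext
      simp [mul_assoc])
    have hsum : ∑ a : A, ((θn a : ℂˣ) : ℂ) = 0 := by
      have := sum_hom_units_eq_zero ((Units.coeHom ℂ).comp θn) (fun e => hθn (MonoidHom.ext fun a =>
        Units.ext (DFunLike.congr_fun e a)))
      simpa using this
    rw [← Finset.add_sum_erase _ _ (Finset.mem_univ (1 : A)), map_one, Units.val_one] at hsum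
    have hbij : ∑ a ∈ (Finset.univ : Finset A).erase 1, ((θn a : ℂˣ) : ℂ) =
        ∑ a ∈ sharp A, Cfsg.extendByZero A (fun x => (θ x : ℂ)) ((n : G)⁻¹ * a * n) := by
      refine Finset.sum_bij (fun a _ => (a : G)) ?_ ?_ ?_ ?_
      · intro a ha
        rw [mem_sharp]
        exact ⟨a.2, fun e => (Finset.mem_erase.1 ha).1 (Subtype.ext e)⟩
      · intro a _ b _ e; exact Subtype.ext e
      · intro a ha
        rw [mem_sharp] at ha
        exact ⟨⟨a, ha.1⟩, Finset.mem_erase.2 ⟨fun e => ha.2 (congrArg Subtype.val e),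
          Finset.mem_univ _⟩, rfl⟩
      · intro a _
        rw [CfsgLib.Char.extendByZero_of_mem _ (hmem a a.2)]
        rfl
    rw [← hbij]
    linear_combination hsum
  rw [Finset.sum_congr rfl fun n _ => hinner n, Finset.sum_const, Finset.card_univ,
    ← Nat.card_eq_fintype_card, hA.card_normalizer h, nsmul_eq_mul, Nat.cast_mul]
  field_simp

/-- Conjugation of a linear character of a torus by a normalising element. -/
def twistBy {A : Subgroup (SzG F m)} (θ : A →* ℂˣ)
    (n : Subgroup.normalizer (A : Set (SzG F m))) : A →* ℂˣ where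
  toFun a := θ ⟨(n : SzG F m)⁻¹ * a * n, (Subgroup.mem_normalizer_iff''.1 n.2 a).1 a.2⟩
  map_one' := (congrArg θ (Subtype.ext (show (n : SzG F m)⁻¹ * ((1 : A) : SzG F m) * n =
    ((1 : A) : SzG F m) by simp))).trans (map_one θ)
  map_mul' a b := by
    rw [← map_mul]
    congr 1
    ext
    push_cast
    group

omit h in
theorem extendByZero_twist {A : Subgroup G} (θ : A →* ℂˣ)
    (n : Subgroup.normalizer (A : Set G)) (a : A) :
    Cfsg.extendByZero A (fun x => (θ x : ℂ)) ((n : G)⁻¹ * a * n) = (twistBy θ n a : ℂ) :=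
  CfsgLib.Char.extendByZero_of_mem _ ((Subgroup.mem_normalizer_iff''.1 n.2 a).1 a.2)

theorem twistBy_eq_iff [Fintype G] {A : Subgroup G} (hA : IsTorus A) {θ : A →* ℂˣ} (hθ : θ ≠ 1)
    (n n' : Subgroup.normalizer (A : Set G)) :
    twistBy θ n = twistBy θ n' ↔ (n' : G)⁻¹ * n ∈ A := by
  constructor
  · intro e
    refine orbit_free h hA hθ ((Subgroup.normalizer (A : Set G)).mul_mem
      ((Subgroup.normalizer (A : Set G)).inv_mem n'.2) n.2) fun a => ?_
    have h1 : (n' : G) * a * (n' : G)⁻¹ ∈ A := (Subgroup.mem_normalizer_iff.1 n'.2 a).1 a.2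
    have e' := DFunLike.congr_fun e ⟨_, h1⟩
    simp only [twistBy, MonoidHom.coe_mk, OneHom.coe_mk] at e'
    convert e' using 1
    · congr 1; ext; push_cast; group
    · congr 1; ext; push_cast; group
  · intro hmem
    let : CommGroup A := hA.1.commGroup
    have hN : (n : G) = n' * ((n' : G)⁻¹ * n) := by group
    ext a
    simp only [twistBy, MonoidHom.coe_mk, OneHom.coe_mk]
    refine congrArg Units.val (congrArg θ (Subtype.ext ?_))
    show (n : G)⁻¹ * (a : G) * n = (n' : G)⁻¹ * (a : G) * n'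
    rw [hN, show ((n' : G) * ((n' : G)⁻¹ * n))⁻¹ * a * ((n' : G) * ((n' : G)⁻¹ * n)) =
      ((n' : G)⁻¹ * n)⁻¹ * ((n' : G)⁻¹ * a * n') * ((n' : G)⁻¹ * n) by group]
    have hb := (Subgroup.mem_normalizer_iff''.1 n'.2 a).1 a.2
    have hc : ((n' : G)⁻¹ * a * n') * ((n' : G)⁻¹ * n) = ((n' : G)⁻¹ * n) * ((n' : G)⁻¹ * a * n') :=
      congrArg Subtype.val (mul_comm (⟨_, hb⟩ : A) ⟨_, hmem⟩)
    rw [mul_assoc, hc, inv_mul_cancel_left]

/-- The squared norm of an orbit sum. -/
theorem norm_indFun_torus [Fintype G] {A : Subgroup G} (hA : IsTorus A) {θ : A →* ℂˣ}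
    (hθ : θ ≠ 1) :
    ∑ a ∈ sharp A, Cfsg.indFun A (fun x => (θ x : ℂ)) a *
        conj (Cfsg.indFun A (fun x => (θ x : ℂ)) a) =
      (torusWeight m (Nat.card A) : ℂ) * (Nat.card A : ℂ) -
        (torusWeight m (Nat.card A) : ℂ) ^ 2 := by
  classical
  set N := Subgroup.normalizer (A : Set G)
  let : Fintype N := Fintype.ofFinite N
  have hk : (Nat.card A : ℂ) ≠ 0 := Nat.cast_ne_zero.2 Nat.card_pos.ne'
  have hval : ∀ a : A, a ≠ 1 → Cfsg.indFun A (fun x => (θ x : ℂ)) a =
      (Nat.card A : ℂ)⁻¹ * ∑ n : N, (twistBy θ n a : ℂ) := by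
    intro a ha
    rw [indFun_torus_apply h hA _ a.2 (fun e => ha (Subtype.ext e))]
    exact congrArg _ (Finset.sum_congr rfl fun n _ => extendByZero_twist θ n a)
  have hsharp : ∀ f : G → ℂ, ∑ a ∈ sharp A, f a = ∑ a ∈ (Finset.univ : Finset A).erase 1, f a := by
    intro f
    refine (Finset.sum_bij (s := (Finset.univ : Finset A).erase 1) (t := sharp A)
      (f := fun a => f a) (g := f) (fun a _ => (a : G)) ?_ ?_ ?_ fun _ _ => rfl).symm
    · intro a ha
      rw [mem_sharp]
      exact ⟨a.2, fun e => (Finset.mem_erase.1 ha).1 (Subtype.ext e)⟩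
    · intro a _ b _ e; exact Subtype.ext e
    · intro a ha
      rw [mem_sharp] at ha
      exact ⟨⟨a, ha.1⟩, Finset.mem_erase.2 ⟨fun e => ha.2 (congrArg Subtype.val e),
        Finset.mem_univ _⟩, rfl⟩
  have hterm : ∀ n n' : N, ∑ a ∈ (Finset.univ : Finset A).erase 1,
      (twistBy θ n a : ℂ) * conj (twistBy θ n' a : ℂ) =
        (if (n' : G)⁻¹ * n ∈ A then (Nat.card A : ℂ) else 0) - 1 := by
    intro n n'
    have e : ∑ a : A, (twistBy θ n a : ℂ) * conj (twistBy θ n' a : ℂ) =
        if (n' : G)⁻¹ * n ∈ A then (Nat.card A : ℂ) else 0 := by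
      have h1 : ∀ a : A, (twistBy θ n a : ℂ) * conj (twistBy θ n' a : ℂ) =
          (Units.coeHom ℂ).comp (twistBy θ n * (twistBy θ n')⁻¹) a := by
        intro a
        simp [CfsgLib.Char.conj_eq_inv_hom]
      rw [Finset.sum_congr rfl fun a _ => h1 a]
      split_ifs with hmem
      · rw [(twistBy_eq_iff h hA hθ n n').2 hmem]
        refine (Finset.sum_eq_card_nsmul (b := (1 : ℂ)) fun a _ => by simp).trans ?_
        simp [Nat.card_eq_fintype_card]
      · refine sum_hom_units_eq_zero _ fun e => hmem ((twistBy_eq_iff h hA hθ n n').1 ?_)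
        refine MonoidHom.ext fun a => Units.ext ?_
        have e1 := DFunLike.congr_fun e a
        simp only [MonoidHom.comp_apply, MonoidHom.mul_apply, MonoidHom.inv_apply, Units.coeHom_apply,
          MonoidHom.one_apply, Units.val_mul, Units.val_inv_eq_inv_val] at e1
        exact (mul_inv_eq_one₀ (Units.ne_zero _)).1 e1
    rw [← e, ← Finset.add_sum_erase _ _ (Finset.mem_univ (1 : A))]
    simp
  have hcount : ∀ n : N, ∑ n' : N, (if (n' : G)⁻¹ * n ∈ A then (Nat.card A : ℂ) else 0) =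
      (Nat.card A : ℂ) * (Nat.card A : ℂ) := by
    intro n
    rw [Finset.sum_ite, Finset.sum_const, Finset.sum_const_zero, add_zero, nsmul_eq_mul]
    congr 1
    rw [← Fintype.card_subtype, ← Nat.card_eq_fintype_card, Nat.cast_inj]
    refine Nat.card_congr
      { toFun := fun x => ⟨(x.1 : G)⁻¹ * n, x.2⟩
        invFun := fun a => ⟨⟨(n : G) * (a : G)⁻¹, N.mul_mem n.2 (N.inv_mem (Subgroup.le_normalizer a.2))⟩, by
          show ((n : G) * (a : G)⁻¹)⁻¹ * n ∈ A
          rw [mul_inv_rev, inv_inv, inv_mul_cancel_right]; exact a.2⟩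
        left_inv := fun x => Subtype.ext (Subtype.ext (by simp))
        right_inv := fun a => Subtype.ext (by simp) }
  rw [hsharp, Finset.sum_congr rfl fun a ha => by rw [hval a (Finset.mem_erase.1 ha).1]]
  simp only [map_mul, map_sum, map_inv₀, Complex.conj_natCast]
  have hre : ∀ x y : A → ℂ, ∑ a ∈ (Finset.univ : Finset A).erase 1,
      ((Nat.card A : ℂ)⁻¹ * x a) * ((Nat.card A : ℂ)⁻¹ * y a) =
      (Nat.card A : ℂ)⁻¹ ^ 2 * ∑ a ∈ (Finset.univ : Finset A).erase 1, x a * y a := by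
    intro x y
    rw [Finset.mul_sum]
    exact Finset.sum_congr rfl fun a _ => by ring
  rw [hre, Finset.sum_congr rfl fun a _ => Finset.sum_mul_sum _ _ _ _, Finset.sum_comm,
    Finset.sum_congr rfl fun n _ => Finset.sum_comm,
    Finset.sum_congr rfl fun n _ => Finset.sum_congr rfl fun n' _ => hterm n n']
  simp only [Finset.sum_sub_distrib, hcount, Finset.sum_const, Finset.card_univ, nsmul_eq_mul,
    ← Nat.card_eq_fintype_card, mul_one]
  rw [hA.card_normalizer h, Nat.cast_mul]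
  field_simp

end CfsgLib.Suzuki
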