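/-
Suzuki group: functions on the Sylow 2-subgroup used for inducing.
-/
import Cfsg.Agent.Suzuki.MinDegree
import Cfsg.Agent.Char.TI
import Cfsg.Agent.Char.Linear
import Cfsg.Agent.Char.Central
import Cfsg.Agent.Char.Values

set_option autoImplicit false

namespace CfsgLib.Suzuki

open scoped ComplexConjugate

variable {F : Type*} [Field F] {m : ℕ}

local notation "G" => SzG F m

/-- A nontrivial sign character of the additive group of the field. -/
structure IsSignChar (φ : F → ℂ) : Prop where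
  map_add : ∀ a b, φ (a + b) = φ a * φ b
  sign : ∀ a, φ a = 1 ∨ φ a = -1
  nontriv : ∃ b, φ b = -1

namespace IsSignChar

variable {φ : F → ℂ} (hφ : IsSignChar φ)
include hφ

theorem map_zero : φ 0 = 1 := by
  have e := hφ.map_add 0 0
  rw [add_zero] at e
  rcases hφ.sign 0 with e1 | e1
  · exact e1
  · rw [e1] at e; norm_num at e

theorem mul_self (a : F) : φ a * φ a = 1 := by
  rcases hφ.sign a with e | e <;> rw [e] <;> norm_num

theorem conj_eq (a : F) : conj (φ a) = φ a := by
  rcases hφ.sign a with e | e <;> rw [e] <;> simp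

theorem sum_mul [Fintype F] {c : F} (hc : c ≠ 0) : ∑ b, φ (c * b) = 0 := by
  obtain ⟨b₀, hb₀⟩ := hφ.nontriv
  have h1 := Equiv.sum_comp (Equiv.addRight (b₀ / c)) (fun b => φ (c * b))
  simp only [Equiv.coe_addRight, mul_add, mul_div_cancel₀ _ hc, hφ.map_add, hb₀, mul_neg_one,
    Finset.sum_neg_distrib] at h1
  linear_combination (-1 / 2 : ℂ) * h1

theorem sum_eq_zero [Fintype F] : ∑ b, φ b = 0 := by
  simpa using hφ.sum_mul (c := 1) one_ne_zero

end IsSignChar

variable (h : IsSzField F m)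
include h

theorem exists_signChar : ∃ φ : F → ℂ, IsSignChar φ := by
  have := h.finite
  have := h.charP
  have hcomm : commutator (Multiplicative F) = ⊥ := by
    rw [commutator_def, Subgroup.commutator_eq_bot_iff_le_centralizer]
    exact fun x _ => Subgroup.mem_centralizer_iff.2 fun y _ => mul_comm y x
  obtain ⟨lam, hlam⟩ := CfsgLib.Char.exists_hom_ne_one (g := Multiplicative.ofAdd (1 : F))
    (fun hm => one_ne_zero (α := F) (by
      rw [hcomm, Subgroup.mem_bot] at hm
      exact congrArg Multiplicative.toAdd hm))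
  have hsign : ∀ a, (lam (Multiplicative.ofAdd a) : ℂ) = 1 ∨
      (lam (Multiplicative.ofAdd a) : ℂ) = -1 := by
    intro a
    refine mul_self_eq_one_iff.1 ?_
    rw [← Units.val_mul, ← map_mul, ← ofAdd_add, CharTwo.add_self_eq_zero]
    simp
  refine ⟨fun a => (lam (Multiplicative.ofAdd a) : ℂ), ⟨fun a b => ?_, hsign, 1, ?_⟩⟩
  · rw [ofAdd_add, map_mul, Units.val_mul]
  · refine (hsign 1).resolve_left fun e => hlam (Units.ext e)

variable {φ : F → ℂ}

/-- The linear character of `U` through its first coordinate. -/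
noncomputable def lamLin (h : IsSzField F m) (φ : F → ℂ) : unip h → ℂ :=
  fun u => φ (Multiplicative.toAdd (alpha h u))

theorem alpha_uE (a b : F) :
    Multiplicative.toAdd (alpha h ⟨uE h a b, uE_mem h a b⟩) = a := by
  simp [alpha, Umat]

theorem lamLin_uE (a b : F) : lamLin h φ ⟨uE h a b, uE_mem h a b⟩ = φ a := by
  rw [lamLin, alpha_uE]

theorem isCharacter_lamLin (hφ : IsSignChar φ) : Cfsg.IsCharacter (unip h) (lamLin h φ) := by
  let ψ : Multiplicative F →* ℂˣ :=
    { toFun := fun a => Units.mk0 (φ (Multiplicative.toAdd a)) (by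
        rcases hφ.sign (Multiplicative.toAdd a) with e | e <;> rw [e] <;> norm_num)
      map_one' := Units.ext hφ.map_zero
      map_mul' := fun a b => Units.ext (hφ.map_add _ _) }
  exact CfsgLib.Char.isCharacter_ofHom (ψ.comp (alpha h))

theorem center_coord {u : unip h} {b : F} (e : (u : G) = uE h 0 b) : (u : G).1.val 1 3 = b ∨
    (u : G).1.val 0 2 = b := by
  left
  rw [e]
  simp [Umat]

/-- The character of the centre through its coordinate. -/
noncomputable def muCenter (h : IsSzField F m) (φ : F → ℂ) : Subgroup.center (unip h) → ℂ :=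
  fun z => φ (((z : unip h) : G).1.val 1 3)

theorem muCenter_uE {b : F} (hb : (⟨uE h 0 b, uE_mem h 0 b⟩ : unip h) ∈ Subgroup.center (unip h)) :
    muCenter h φ ⟨_, hb⟩ = φ b := by
  simp [muCenter, Umat]

theorem uE0_mem_center (b : F) : (⟨uE h 0 b, uE_mem h 0 b⟩ : unip h) ∈ Subgroup.center (unip h) :=
  (mem_center_unip_iff h).2 ⟨b, rfl⟩

/-- The hom underlying `muCenter`. -/
theorem exists_muHom (hφ : IsSignChar φ) :
    ∃ ω : Subgroup.center (unip h) →* ℂˣ, ∀ z, (ω z : ℂ) = muCenter h φ z := by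
  refine ⟨{ toFun := fun z => Units.mk0 (muCenter h φ z) ?_
            map_one' := Units.ext ?_
            map_mul' := fun z w => Units.ext ?_ }, fun z => rfl⟩
  · rcases hφ.sign (((z : unip h) : G).1.val 1 3) with e | e <;> rw [muCenter, e] <;> norm_num
  · simp [muCenter, hφ.map_zero]
  · obtain ⟨a, ha⟩ := (mem_center_unip_iff h).1 z.2
    obtain ⟨b, hb⟩ := (mem_center_unip_iff h).1 w.2
    show φ _ = φ _ * φ _
    rw [show (((z * w : Subgroup.center (unip h)) : unip h) : G) = uE h 0 a * uE h 0 b by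
      rw [← ha, ← hb]; rfl, ha, hb, uE_mul, ← hφ.map_add]
    simp [Umat]

theorem exists_eta [Fintype (unip h)] [Fintype (Subgroup.center (unip h))] (hφ : IsSignChar φ) :
    ∃ η η' : unip h → ℂ, Cfsg.IsIrrCharacter (unip h) η ∧ Cfsg.IsIrrCharacter (unip h) η' ∧
      η ≠ η' ∧
      Cfsg.indFun (Subgroup.center (unip h)) (muCenter h φ) = (2 ^ m : ℂ) • (η + η') ∧
      (∀ b, η ⟨uE h 0 b, uE_mem h 0 b⟩ = 2 ^ m * φ b) ∧
      (∀ b, η' ⟨uE h 0 b, uE_mem h 0 b⟩ = 2 ^ m * φ b) ∧
      ∃ ρ : F, ρ ≠ 0 ∧ (∀ a b, a ≠ 0 → a ≠ ρ → η ⟨uE h a b, uE_mem h a b⟩ = 0) ∧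
        ∀ b, η ⟨uE h ρ b, uE_mem h ρ b⟩ * conj (η ⟨uE h ρ b, uE_mem h ρ b⟩) =
          2 ^ (2 * m) := by
  classical
  have := h.finite
  let : Fintype F := Fintype.ofFinite F
  obtain ⟨ω, hω⟩ := exists_muHom h hφ
  have hωfun : (fun z => (ω z : ℂ)) = muCenter h φ := funext hω
  set μ := Cfsg.indFun (Subgroup.center (unip h)) (muCenter h φ) with hμ
  have hμc : Cfsg.IsCharacter (unip h) μ :=
    CfsgLib.Char.IsCharacter.indFun (hωfun ▸ CfsgLib.Char.isCharacter_ofHom ω)
  have hcardU : Nat.card (unip h) = Nat.card F ^ 2 := card_unip h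
  have hcardZ : Nat.card (Subgroup.center (unip h)) = Nat.card F := card_center_unip h
  -- values of `μ`
  have hμZ : ∀ z : Subgroup.center (unip h), μ z = (Nat.card F : ℂ) * muCenter h φ z := by
    intro z
    rw [hμ, CfsgLib.Char.indFun_apply_normal]
    rw [Finset.sum_congr rfl (g := fun _ => muCenter h φ z) (fun x _ => ?_), Finset.sum_const,
      Finset.card_univ, ← Nat.card_eq_fintype_card, hcardU, hcardZ, nsmul_eq_mul]
    · have : (Nat.card F : ℂ) ≠ 0 := Nat.cast_ne_zero.2 (by rw [h.card]; positivity)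
      push_cast
      field_simp
    · congr 1
      ext1
      show x * (z : unip h) * x⁻¹ = _
      rw [Subgroup.mem_center_iff.1 z.2 x, mul_inv_cancel_right]
  have hμ0 : ∀ u : unip h, u ∉ Subgroup.center (unip h) → μ u = 0 :=
    fun u hu => CfsgLib.Char.indFun_eq_zero_of_normal _ hu
  have hμnorm : Cfsg.classInner μ μ = (Nat.card F : ℂ) := by
    rw [hμ, CfsgLib.Char.classInner_indFun _ (CfsgLib.Char.isClassFunction_indFun _ _), ← hμ,
      CfsgLib.Char.classInner_def]
    rw [Finset.sum_congr rfl (g := fun _ => (Nat.card F : ℂ)) (fun z _ => ?_), Finset.sum_const,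
      Finset.card_univ, ← Nat.card_eq_fintype_card, hcardZ, nsmul_eq_mul]
    · rw [← mul_assoc, inv_mul_cancel₀ (Nat.cast_ne_zero.2 (by rw [h.card]; positivity)), one_mul]
    · rw [hμZ, map_mul, Complex.conj_natCast, muCenter, hφ.conj_eq, mul_left_comm, hφ.mul_self,
        mul_one]
  -- constituents
  have key : ∀ η, Cfsg.IsIrrCharacter (unip h) η → Cfsg.classInner μ η ≠ 0 →
      (∀ (z : Subgroup.center (unip h)) (u : unip h),
        η ((z : unip h) * u) = muCenter h φ z * η u) ∧ Cfsg.classInner μ η = η 1 := by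
    intro η hη hne
    obtain ⟨n, rep, hrep, rfl⟩ := hη
    have hscal : ∀ z : Subgroup.center (unip h), ∃ c : ℂ, rep (z : unip h) = c • 1 := fun z =>
      ⟨_, CfsgLib.Char.eq_smul_one_of_commute rep (rep (z : unip h)) fun g => by
        rw [← map_mul, ← map_mul, Subgroup.mem_center_iff.1 z.2 g]⟩
    choose c hc using hscal
    have hchar : ∀ (z : Subgroup.center (unip h)) (u : unip h),
        rep.character ((z : unip h) * u) = c z * rep.character u := by
      intro z u
      simp only [Representation.character, map_mul, hc, smul_mul_assoc, one_mul, map_smul,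
        smul_eq_mul]
    have hclass : Cfsg.IsClassFunction (unip h) rep.character :=
      CfsgLib.Char.IsCharacter.isClassFunction ⟨n, rep, rfl⟩
    have hn : 0 < Module.finrank ℂ (Fin n → ℂ) := CfsgLib.Char.finrank_pos_of_isIrreducible rep
    have h1 : rep.character 1 ≠ 0 := by rw [rep.char_one]; exact_mod_cast hn.ne'
    have hcinj : ∀ (a : ℂ), a • (1 : Module.End ℂ (Fin n → ℂ)) = 1 → a = 1 := by
      intro a e
      have e' := congrArg (LinearMap.trace ℂ (Fin n → ℂ)) e
      rw [map_smul, LinearMap.trace_one, smul_eq_mul] at e'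
      exact (mul_eq_right₀ (Nat.cast_ne_zero.2 hn.ne')).1 e'
    have hc1 : c 1 = 1 := hcinj _ (by rw [← hc]; exact map_one rep)
    have hcmul : ∀ z w, c (z * w) = c z * c w := by
      intro z w
      refine mul_right_cancel₀ h1 ?_
      rw [← hchar, mul_one, mul_assoc, ← hchar w 1, mul_one, ← hchar z, Subgroup.coe_mul]
    let cH : Subgroup.center (unip h) →* ℂˣ :=
      MonoidHom.toHomUnits { toFun := c, map_one' := hc1, map_mul' := hcmul }
    have hz : ∀ z : Subgroup.center (unip h), rep.character (z : unip h) =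
        rep.character 1 * c z := by
      intro z
      have e := hchar z 1
      rw [mul_one] at e
      rw [e, mul_comm]
    have hinner : Cfsg.classInner μ rep.character =
        conj (rep.character 1) * Cfsg.classInner (fun z => (ω z : ℂ)) (fun z => (cH z : ℂ)) := by
      rw [hμ, CfsgLib.Char.classInner_indFun _ hclass, hωfun,
        ← CfsgLib.Char.classInner_smul_right]
      congr 1
      funext z
      exact hz z
    have hcω : cH = ω := by
      by_contra hne'
      apply hne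
      rw [hinner, CfsgLib.Char.IsIrrCharacter.classInner_of_ne (CfsgLib.Char.isIrrCharacter_ofHom ω)
        (CfsgLib.Char.isIrrCharacter_ofHom cH) (fun e => hne' (MonoidHom.ext fun z =>
          Units.ext (congrFun e z).symm)), mul_zero]
    refine ⟨fun z u => ?_, ?_⟩
    · rw [hchar, ← hω, ← hcω]; rfl
    · rw [hinner, hcω, CfsgLib.Char.IsIrrCharacter.classInner_self
        (CfsgLib.Char.isIrrCharacter_ofHom ω), mul_one, rep.char_one, Complex.conj_natCast]
  set R : Finset F := Finset.univ.filter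
    (fun a => ∀ e, φ (sg m a * e + sg m e * a) = 1) with hR
  have hR2 : R.card ≤ 2 := by
    obtain ⟨b₀, hb₀⟩ := hφ.nontriv
    by_cases hex : ∃ a ∈ R, a ≠ 0
    · obtain ⟨a, ha, ha0⟩ := hex
      refine le_trans (Finset.card_le_card (fun x hx => ?_)) (Finset.card_le_two (a := (0 : F)) (b := a))
      simp only [hR, Finset.mem_filter, Finset.mem_univ, true_and] at ha hx
      simp only [Finset.mem_insert, Finset.mem_singleton]
      by_cases hx0 : x = 0
      · exact Or.inl hx0
      · exact Or.inr (radical_unique h hφ.map_add hφ.sign hb₀ hx0 ha0 hx ha)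
    · refine le_trans (Finset.card_le_card (fun x hx => ?_))
        (le_trans (le_of_eq (Finset.card_singleton (0 : F))) (by norm_num))
      rw [Finset.mem_singleton]
      by_contra h0
      exact hex ⟨x, hx, h0⟩
  have hdec : ∀ a b : F, (⟨uE h a b, uE_mem h a b⟩ : unip h) =
      ((⟨⟨uE h 0 b, uE_mem h 0 b⟩, uE0_mem_center h b⟩ : Subgroup.center (unip h)) : unip h) *
        ⟨uE h a 0, uE_mem h a 0⟩ := by
    intro a b
    apply Subtype.ext
    show uE h a b = uE h 0 b * uE h a 0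
    rw [uE_mul]; simp
  -- per constituent
  have key2 : ∀ η, Cfsg.IsIrrCharacter (unip h) η → Cfsg.classInner μ η ≠ 0 →
      (∀ b, η ⟨uE h 0 b, uE_mem h 0 b⟩ = η 1 * φ b) ∧
      (∀ a b, a ∉ R → η ⟨uE h a b, uE_mem h a b⟩ = 0) ∧
      (∀ a b, η ⟨uE h a b, uE_mem h a b⟩ * conj (η ⟨uE h a b, uE_mem h a b⟩) =
        η ⟨uE h a 0, uE_mem h a 0⟩ * conj (η ⟨uE h a 0, uE_mem h a 0⟩)) ∧
      ∑ a ∈ R, η ⟨uE h a 0, uE_mem h a 0⟩ * conj (η ⟨uE h a 0, uE_mem h a 0⟩) =
        (Nat.card F : ℂ) := by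
    intro η hη hne
    obtain ⟨hz, -⟩ := key η hη hne
    have hcl := CfsgLib.Char.IsIrrCharacter.isClassFunction hη
    have hab : ∀ a b, η ⟨uE h a b, uE_mem h a b⟩ = φ b * η ⟨uE h a 0, uE_mem h a 0⟩ := by
      intro a b
      rw [hdec a b, hz, muCenter_uE h (uE0_mem_center h b)]
    have h0 : ∀ b, η ⟨uE h 0 b, uE_mem h 0 b⟩ = η 1 * φ b := by
      intro b
      rw [hab 0 b, mul_comm]
      congr 2
      exact Subtype.ext (uE_zero h)
    have hoff : ∀ a b, a ∉ R → η ⟨uE h a b, uE_mem h a b⟩ = 0 := by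
      intro a b ha
      simp only [hR, Finset.mem_filter, Finset.mem_univ, true_and, not_forall] at ha
      obtain ⟨e, he⟩ := ha
      have he' := (hφ.sign _).resolve_left he
      have h1 := hcl ⟨uE h a b, uE_mem h a b⟩ ⟨uE h e 0, uE_mem h e 0⟩
      have h2 : (⟨uE h e 0, uE_mem h e 0⟩ : unip h) * ⟨uE h a b, uE_mem h a b⟩ *
          (⟨uE h e 0, uE_mem h e 0⟩ : unip h)⁻¹ =
          ⟨uE h a (b + (sg m e * a + sg m a * e)), uE_mem h _ _⟩ :=
        Subtype.ext (uE_conj h e 0 a b)
      rw [h2, hab, hab a b, hφ.map_add, add_comm (sg m e * a), he'] at h1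
      rw [hab]
      linear_combination (-1 / 2 : ℂ) * h1
    have hsq : ∀ a b, η ⟨uE h a b, uE_mem h a b⟩ * conj (η ⟨uE h a b, uE_mem h a b⟩) =
        η ⟨uE h a 0, uE_mem h a 0⟩ * conj (η ⟨uE h a 0, uE_mem h a 0⟩) := by
      intro a b
      rw [hab, map_mul, hφ.conj_eq, mul_mul_mul_comm, hφ.mul_self, one_mul]
    refine ⟨h0, hoff, hsq, ?_⟩
    have hnorm := CfsgLib.Char.IsIrrCharacter.classInner_self hη
    rw [CfsgLib.Char.classInner_def, hcardU] at hnorm
    have hbij : Function.Bijective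
        (fun r : F × F => (⟨uE h r.1 r.2, uE_mem h r.1 r.2⟩ : unip h)) := by
      constructor
      · intro r s e
        obtain ⟨e1, e2⟩ := uE_inj h (congrArg Subtype.val e)
        exact Prod.ext e1 e2
      · rintro ⟨u, hu⟩
        obtain ⟨a, b, rfl⟩ := exists_uE h hu
        exact ⟨(a, b), rfl⟩
    rw [← hbij.sum_comp (fun u => η u * conj (η u)), Fintype.sum_prod_type,
      Finset.sum_congr rfl fun a _ => Finset.sum_congr rfl fun b _ => hsq a b] at hnorm
    simp only [Finset.sum_const, Finset.card_univ, nsmul_eq_mul, ← Nat.card_eq_fintype_card,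
      ← Finset.mul_sum] at hnorm
    have hq : (Nat.card F : ℂ) ≠ 0 := Nat.cast_ne_zero.2 (by rw [h.card]; positivity)
    rw [← Finset.sum_subset (Finset.subset_univ R) fun a _ ha => by rw [hoff a 0 ha, zero_mul]]
      at hnorm
    push_cast at hnorm
    field_simp at hnorm
    linear_combination hnorm
  set C := (CfsgLib.Char.irrFinset (unip h)).filter (fun η => Cfsg.classInner μ η ≠ 0) with hC
  have hCmem : ∀ η, η ∈ C ↔ Cfsg.IsIrrCharacter (unip h) η ∧ Cfsg.classInner μ η ≠ 0 := fun η => by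
    simp [hC, CfsgLib.Char.mem_irrFinset]
  have hdegs : ∀ η ∈ C, ∃ d : ℕ, η 1 = d ∧ 2 ^ (2 * m) ≤ d ^ 2 ∧ d ^ 2 ≤ 2 ^ (2 * m + 1) := by
    intro η hη
    obtain ⟨hirr, hne⟩ := (hCmem η).1 hη
    obtain ⟨d, -, hd⟩ := CfsgLib.Char.IsIrrCharacter.exists_degree hirr
    obtain ⟨-, -, -, hsum⟩ := key2 η hirr hne
    refine ⟨d, hd, ?_, ?_⟩
    · have hle : ∀ a ∈ R, (η ⟨uE h a 0, uE_mem h a 0⟩ *
          conj (η ⟨uE h a 0, uE_mem h a 0⟩)).re ≤ (d : ℝ) ^ 2 := by
        intro a _
        rw [Complex.mul_conj', ← Complex.ofReal_pow, Complex.ofReal_re]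
        refine pow_le_pow_left₀ (norm_nonneg _) ?_ 2
        have := CfsgLib.Char.IsCharacter.norm_apply_le
          (CfsgLib.Char.IsIrrCharacter.isCharacter hirr) (⟨uE h a 0, uE_mem h a 0⟩ : unip h)
        rwa [hd, Complex.natCast_re] at this
      have h1 := Finset.sum_le_sum hle
      rw [← Complex.re_sum, hsum, Complex.natCast_re, Finset.sum_const, nsmul_eq_mul] at h1
      have h2 : (Nat.card F : ℝ) ≤ 2 * (d : ℝ) ^ 2 :=
        h1.trans (mul_le_mul_of_nonneg_right (by exact_mod_cast hR2) (by positivity))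
      have h3 : Nat.card F ≤ 2 * d ^ 2 := by exact_mod_cast h2
      rw [h.card, pow_succ] at h3
      omega
    · have h0R : (0 : F) ∈ R := by simp [hR, hφ.map_zero]
      have h1 : ((η ⟨uE h 0 0, uE_mem h 0 0⟩ * conj (η ⟨uE h 0 0, uE_mem h 0 0⟩)).re) ≤
          ∑ a ∈ R, (η ⟨uE h a 0, uE_mem h a 0⟩ * conj (η ⟨uE h a 0, uE_mem h a 0⟩)).re :=
        Finset.single_le_sum (f := fun a => (η ⟨uE h a 0, uE_mem h a 0⟩ *
          conj (η ⟨uE h a 0, uE_mem h a 0⟩)).re) (fun a _ => by
            rw [Complex.mul_conj', ← Complex.ofReal_pow, Complex.ofReal_re]; positivity) h0R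
      rw [← Complex.re_sum, hsum, Complex.natCast_re,
        show (⟨uE h 0 0, uE_mem h 0 0⟩ : unip h) = 1 from Subtype.ext (uE_zero h), hd,
        Complex.conj_natCast, ← Nat.cast_mul, Complex.natCast_re] at h1
      have h2 : d * d ≤ Nat.card F := by exact_mod_cast h1
      rw [pow_two, ← h.card]
      exact h2
  choose! dg hdg1 hdg2 hdg3 using hdegs
  have hsumsq : ∑ η ∈ C, dg η ^ 2 = 2 ^ (2 * m + 1) := by
    have e := CfsgLib.Char.classInner_eq_sum_irr (CfsgLib.Char.IsCharacter.isClassFunction hμc) μ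
    rw [hμnorm, ← Finset.sum_filter_of_ne (p := fun η => Cfsg.classInner μ η ≠ 0)
      (fun η _ hne' => fun h0 => hne' (by rw [h0, zero_mul]))] at e
    rw [Finset.sum_congr rfl (g := fun η => ((dg η ^ 2 : ℕ) : ℂ)) (fun η hη => by
      obtain ⟨hirr, hne⟩ := (hCmem η).1 hη
      rw [(key η hirr hne).2, hdg1 η hη, Complex.conj_natCast]; push_cast; ring)] at e
    rw [← Nat.cast_sum, h.card, Nat.cast_inj] at e
    exact e.symm
  have hdm : ∀ η ∈ C, dg η = 2 ^ m ∧ C.card = 2 := by
    intro η hη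
    have h1 : C.card * 2 ^ (2 * m) ≤ ∑ η ∈ C, dg η ^ 2 := by
      rw [← smul_eq_mul, ← Finset.sum_const]; exact Finset.sum_le_sum hdg2
    rw [hsumsq, pow_succ, mul_comm (2 ^ (2 * m)) 2] at h1
    have hc2 : C.card ≤ 2 := Nat.le_of_mul_le_mul_right h1 (by positivity)
    have hc1 : 0 < C.card := Finset.card_pos.2 ⟨η, hη⟩
    rcases (show C.card = 1 ∨ C.card = 2 by omega) with e | e
    · exfalso
      obtain ⟨x, hx⟩ := Finset.card_eq_one.1 e
      rw [hx, Finset.sum_singleton] at hsumsq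
      have hd2 : dg x ∣ 2 ^ (2 * m + 1) := ⟨dg x, by rw [← hsumsq, pow_two]⟩
      obtain ⟨i, -, hi⟩ := (Nat.dvd_prime_pow Nat.prime_two).1 hd2
      rw [hi, ← pow_mul] at hsumsq
      have := Nat.pow_right_injective le_rfl hsumsq
      omega
    · refine ⟨?_, e⟩
      obtain ⟨x, y, hxy, hxy'⟩ := Finset.card_eq_two.1 e
      rw [hxy', Finset.sum_pair hxy] at hsumsq
      have hx2 := hdg2 x (hxy' ▸ Finset.mem_insert_self _ _)
      have hy2 := hdg2 y (hxy' ▸ Finset.mem_insert_of_mem (Finset.mem_singleton_self _))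
      rw [pow_succ 2 (2 * m)] at hsumsq
      have hsq2 : dg η ^ 2 = (2 ^ m) ^ 2 := by
        rw [← pow_mul, mul_comm m 2]
        rw [hxy', Finset.mem_insert, Finset.mem_singleton] at hη
        rcases hη with rfl | rfl <;> omega
      exact Nat.pow_left_injective (by norm_num) hsq2
  have hne0 : C.Nonempty := Finset.nonempty_iff_ne_empty.2 fun e => by
    rw [e, Finset.sum_empty] at hsumsq
    exact absurd hsumsq.symm (by positivity)
  obtain ⟨η₀, hη₀⟩ := hne0
  obtain ⟨η, η', hne, hCeq⟩ := Finset.card_eq_two.1 (hdm η₀ hη₀).2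
  have hηC : η ∈ C := hCeq ▸ Finset.mem_insert_self _ _
  have hη'C : η' ∈ C := hCeq ▸ Finset.mem_insert_of_mem (Finset.mem_singleton_self _)
  obtain ⟨hirr, hn⟩ := (hCmem η).1 hηC
  obtain ⟨hirr', hn'⟩ := (hCmem η').1 hη'C
  obtain ⟨h0, hoff, hsq, hsum⟩ := key2 η hirr hn
  obtain ⟨h0', -, -, -⟩ := key2 η' hirr' hn'
  have hd : η 1 = (2 ^ m : ℂ) := by rw [hdg1 η hηC, (hdm η hηC).1]; push_cast; rfl
  have hd' : η' 1 = (2 ^ m : ℂ) := by rw [hdg1 η' hη'C, (hdm η' hη'C).1]; push_cast; rfl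
  refine ⟨η, η', hirr, hirr', hne, ?_, fun b => by rw [h0, hd], fun b => by rw [h0', hd'], ?_⟩
  · refine (CfsgLib.Char.eq_sum_irr (CfsgLib.Char.IsCharacter.isClassFunction hμc)).trans ?_
    rw [← Finset.sum_filter_of_ne (p := fun χ => Cfsg.classInner μ χ ≠ 0)
      (fun χ _ hne' => fun h0 => hne' (by rw [h0, zero_smul]))]
    show ∑ χ ∈ C, _ = _
    rw [hCeq, Finset.sum_pair hne, (key η hirr hn).2, (key η' hirr' hn').2, hd, hd', smul_add]
  · have h0R : (0 : F) ∈ R := by simp [hR, hφ.map_zero]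
    rw [← Finset.add_sum_erase R _ h0R,
      show (⟨uE h 0 0, uE_mem h 0 0⟩ : unip h) = 1 from Subtype.ext (uE_zero h), hd] at hsum
    rw [map_pow, map_ofNat, ← mul_pow] at hsum
    have hval : (∑ a ∈ R.erase 0, η ⟨uE h a 0, uE_mem h a 0⟩ *
        conj (η ⟨uE h a 0, uE_mem h a 0⟩)) = 2 ^ (2 * m) := by
      rw [h.card, pow_succ] at hsum
      push_cast at hsum
      rw [show ((2 : ℂ) * 2) ^ m = 2 ^ (2 * m) by rw [pow_mul]; norm_num] at hsum
      linear_combination hsum
    obtain ⟨ρ, hρ⟩ : ∃ ρ, R.erase 0 = {ρ} := by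
      rw [← Finset.card_eq_one]
      have h1 : (R.erase 0).card ≤ 1 := by rw [Finset.card_erase_of_mem h0R]; omega
      rcases (show (R.erase 0).card = 0 ∨ (R.erase 0).card = 1 by omega) with e | e
      · rw [Finset.card_eq_zero.1 e, Finset.sum_empty] at hval
        exact absurd hval.symm (pow_ne_zero _ two_ne_zero)
      · exact e
    rw [hρ, Finset.sum_singleton] at hval
    have hρmem : ρ ∈ R.erase 0 := hρ ▸ Finset.mem_singleton_self ρ
    refine ⟨ρ, (Finset.mem_erase.1 hρmem).1, fun a b ha haρ => hoff a b fun hmem => haρ ?_,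
      fun b => by rw [hsq, hval]⟩
    exact Finset.mem_singleton.1 (hρ ▸ Finset.mem_erase.2 ⟨ha, hmem⟩)

end CfsgLib.Suzuki
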