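/-
Suzuki group: values of the class functions making up the character table.
-/
import Cfsg.Agent.Suzuki.Chars.ClassSum
import Cfsg.Agent.Suzuki.Chars.Unip
import Cfsg.Agent.Suzuki.Solubilizer
import Cfsg.Agent.Char.PermChar
import Cfsg.Agent.Char.Signed

set_option autoImplicit false

namespace CfsgLib.Suzuki

open scoped ComplexConjugate

variable {F : Type*} [Field F] {m : ℕ}

local notation "G" => SzG F m

variable (h : IsSzField F m)

theorem cast_q (h : IsSzField F m) : (Nat.card F : ℂ) = 2 * (2 ^ m) ^ 2 := by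
  rw [h.card]; push_cast; rw [pow_succ, mul_comm, ← pow_mul, mul_comm m 2]

theorem cast_q_ne_zero (h : IsSzField F m) : (Nat.card F : ℂ) ≠ 0 :=
  Nat.cast_ne_zero.2 (by rw [h.card]; positivity)

include h

theorem one_le_q : 1 ≤ Nat.card F := by rw [h.card]; exact Nat.one_le_two_pow

theorem cast_torusOrders :
    ((2 ^ (2 * m + 1) - 1 : ℕ) : ℂ) = (Nat.card F : ℂ) - 1 ∧
      ((2 ^ (2 * m + 1) + 2 ^ (m + 1) + 1 : ℕ) : ℂ) = (Nat.card F : ℂ) + 2 * 2 ^ m + 1 ∧
      ((2 ^ (2 * m + 1) - 2 ^ (m + 1) + 1 : ℕ) : ℂ) = (Nat.card F : ℂ) - 2 * 2 ^ m + 1 := by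
  have h1 : 2 ^ (m + 1) ≤ 2 ^ (2 * m + 1) := Nat.pow_le_pow_right (by norm_num) (by omega)
  refine ⟨?_, ?_, ?_⟩
  · rw [Nat.cast_sub Nat.one_le_two_pow, h.card, Nat.cast_one]
  · rw [h.card]; push_cast; rw [pow_succ (2 : ℂ) m]; ring
  · rw [Nat.cast_add, Nat.cast_sub h1, h.card, Nat.cast_one]; push_cast; rw [pow_succ (2 : ℂ) m]; ring

/-- A class function on `U` induced to the group, at the identity. -/
theorem indU_one [Fintype G] (γ : unip h → ℂ) :
    Cfsg.indFun (unip h) γ 1 = ((Nat.card F : ℂ) ^ 2 + 1) * ((Nat.card F : ℂ) - 1) * γ 1 := by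
  rw [CfsgLib.Char.indFun_one, index_unip]
  push_cast [Nat.cast_sub (one_le_q h)]
  ring

theorem indU_eq_zero [Fintype G] (γ : unip h → ℂ) {g : G} (hg : ∀ c : G, c * g * c⁻¹ ∉ unip h) :
    Cfsg.indFun (unip h) γ g = 0 :=
  CfsgLib.Char.indFun_eq_zero γ fun x hx => hg x⁻¹ (by rwa [inv_inv])

/-- A class function on `U` induced to the group, at a nontrivial element of `U`. -/
theorem indU_apply [Fintype G] [Fintype F] [DecidableEq F] {γ : unip h → ℂ}
    (hγ : Cfsg.IsClassFunction (unip h) γ) {a b : F} (hne : uE h a b ≠ 1) :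
    Cfsg.indFun (unip h) γ (uE h a b) =
      ∑ t : Fˣ, γ ⟨uE h (sg m (t : F) * a) (lam m t * b), uE_mem h _ _⟩ := by
  classical
  set f : G → ℂ := fun x => Cfsg.extendByZero (unip h) γ (x⁻¹ * uE h a b * x)
  have hbij : Function.Bijective (fun r : Fˣ × unip h => (⟨dE h r.1 * (r.2 : G), by
      exact (borel F m).mul_mem (MulAction.mem_stabilizer_iff.2 ((mem_torus_iff h).1 ⟨r.1, rfl⟩).1)
        (unip_le_stab h r.2.2)⟩ : borel F m)) := by
    constructor
    · rintro ⟨t, ⟨u, hu⟩⟩ ⟨s, ⟨v, hv⟩⟩ e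
      obtain ⟨p, q, rfl⟩ := exists_uE h hu
      obtain ⟨p', q', rfl⟩ := exists_uE h hv
      have e' : dE h t * uE h p q = dE h s * uE h p' q' := congrArg Subtype.val e
      have e2 := e'
      rw [dE_mul_uE, dE_mul_uE] at e2
      obtain ⟨-, -, rfl⟩ := uE_dE_inj h e2
      have e3 := mul_left_cancel e'
      exact Prod.ext rfl (Subtype.ext e3)
    · rintro ⟨x, hx⟩
      obtain ⟨p, q, t, rfl⟩ := (mem_stab_inf h).1 hx
      refine ⟨⟨t, ⟨(dE h t)⁻¹ * (uE h p q * dE h t), ?_⟩⟩, Subtype.ext ?_⟩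
      · rw [show (dE h t)⁻¹ * (uE h p q * dE h t) = dE h t⁻¹ * uE h p q * (dE h t⁻¹)⁻¹ by
          rw [map_inv, inv_inv, mul_assoc], dE_conj]
        exact uE_mem h _ _
      · show dE h t * ((dE h t)⁻¹ * (uE h p q * dE h t)) = _
        rw [mul_inv_cancel_left]
  have hsum : ∑ x : G, f x = ∑ r : Fˣ × unip h, f (dE h r.1 * (r.2 : G)) := by
    rw [hbij.sum_comp (fun x : borel F m => f x), ← Finset.sum_subset (Finset.subset_univ
      (Finset.univ.filter fun x : G => x ∈ borel F m)) ?_]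
    · exact Finset.sum_subtype _ (by simp) f
    · intro x _ hx
      simp only [Finset.mem_filter, Finset.mem_univ, true_and] at hx
      apply CfsgLib.Char.extendByZero_of_not_mem
      intro hmem
      apply hx
      refine inv_mem_iff.1 (mem_borel_of_conj_mem_unip h (uE_mem h a b) hne ?_)
      rwa [inv_inv]
  rw [CfsgLib.Char.indFun_def, hsum, Fintype.sum_prod_type, ← Equiv.sum_comp (Equiv.inv Fˣ)]
  have hterm : ∀ (t : Fˣ) (u : unip h), f (dE h t⁻¹ * (u : G)) =
      γ ⟨uE h (sg m (t : F) * a) (lam m t * b), uE_mem h _ _⟩ := by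
    intro t u
    have e : (dE h t⁻¹ * (u : G))⁻¹ * uE h a b * (dE h t⁻¹ * (u : G)) =
        (u : G)⁻¹ * uE h (sg m (t : F) * a) (lam m t * b) * (u : G) := by
      rw [show (dE h t⁻¹ * (u : G))⁻¹ * uE h a b * (dE h t⁻¹ * (u : G)) =
        (u : G)⁻¹ * (dE h t * uE h a b * (dE h t)⁻¹) * (u : G) by rw [map_inv]; group, dE_conj]
      rfl
    show Cfsg.extendByZero _ γ _ = _
    rw [e]
    have h2 := hγ ⟨_, uE_mem h (sg m (t : F) * a) (lam m t * b)⟩ u⁻¹
    rw [inv_inv] at h2
    rw [CfsgLib.Char.extendByZero_of_mem γ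
      ((unip h).mul_mem ((unip h).mul_mem ((unip h).inv_mem u.2) (uE_mem h _ _)) u.2), ← h2]
    rfl
  simp only [Equiv.inv_apply, hterm, Finset.sum_const, Finset.card_univ, nsmul_eq_mul,
    ← Nat.card_eq_fintype_card, card_unip, ← Finset.mul_sum]
  rw [← mul_assoc, inv_mul_cancel₀, one_mul]
  push_cast
  exact pow_ne_zero _ (cast_q_ne_zero h)

theorem sg_units_bijective : Function.Bijective
    (fun t : Fˣ => Units.mk0 (sg m (t : F)) (sg_ne_zero t.ne_zero)) := by
  have := h.finite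
  have hinj : Function.Injective (fun t : Fˣ => Units.mk0 (sg m (t : F)) (sg_ne_zero t.ne_zero)) :=
    fun s t e => Units.ext (h.sg_injective (congrArg Units.val e))
  exact ⟨hinj, Finite.injective_iff_surjective.mp hinj⟩

theorem lam_units_bijective : Function.Bijective
    (fun t : Fˣ => Units.mk0 (lam m t) (lam_ne_zero t)) := by
  have := h.finite
  have hinj : Function.Injective (fun t : Fˣ => Units.mk0 (lam m t) (lam_ne_zero t)) :=
    fun s t e => lam_injective h (congrArg Units.val e)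
  exact ⟨hinj, Finite.injective_iff_surjective.mp hinj⟩

omit h in
theorem IsSignChar.sum_units_mul [Fintype F] [DecidableEq F] {φ : F → ℂ} (hφ : IsSignChar φ)
    {c : F} (hc : c ≠ 0) : ∑ t : Fˣ, φ ((t : F) * c) = -1 := by
  classical
  have h1 := hφ.sum_mul hc
  rw [← Finset.add_sum_erase _ _ (Finset.mem_univ (0 : F)), mul_zero, hφ.map_zero] at h1
  have h2 : ∑ t : Fˣ, φ ((t : F) * c) = ∑ b ∈ (Finset.univ : Finset F).erase 0, φ (c * b) := by
    refine Finset.sum_bij (fun t _ => (t : F)) ?_ ?_ ?_ ?_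
    · intro t _; exact Finset.mem_erase.2 ⟨t.ne_zero, Finset.mem_univ _⟩
    · intro s _ t _ e; exact Units.ext e
    · intro b hb; exact ⟨Units.mk0 b (Finset.mem_erase.1 hb).1, Finset.mem_univ _, rfl⟩
    · intro t _; rw [mul_comm]
  rw [h2]
  linear_combination h1

theorem indU_lamLin [Fintype G] [Fintype F] [DecidableEq F] {φ : F → ℂ} (hφ : IsSignChar φ)
    {a b : F} (hne : uE h a b ≠ 1) :
    Cfsg.indFun (unip h) (lamLin h φ) (uE h a b) =
      if a = 0 then (Nat.card F : ℂ) - 1 else -1 := by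
  rw [indU_apply h (CfsgLib.Char.IsCharacter.isClassFunction (isCharacter_lamLin h hφ)) hne]
  simp only [lamLin_uE]
  split_ifs with ha
  · subst ha
    simp only [mul_zero, hφ.map_zero, Finset.sum_const, Finset.card_univ, nsmul_eq_mul, mul_one,
      ← Nat.card_eq_fintype_card, Nat.card_units]
    push_cast [Nat.cast_sub (one_le_q h)]
    rfl
  · exact ((sg_units_bijective h).sum_comp (fun s : Fˣ => φ ((s : F) * a))).trans
      (hφ.sum_units_mul ha)

/-- The data attached to a sign character. -/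
structure EtaData (φ : F → ℂ) (η η' : unip h → ℂ) (ρ : F) : Prop where
  isSign : IsSignChar φ
  irr : Cfsg.IsIrrCharacter (unip h) η
  irr' : Cfsg.IsIrrCharacter (unip h) η'
  center : ∀ b, η ⟨uE h 0 b, uE_mem h 0 b⟩ = 2 ^ m * φ b
  center' : ∀ b, η' ⟨uE h 0 b, uE_mem h 0 b⟩ = 2 ^ m * φ b
  add_eq_zero : ∀ a b, a ≠ 0 → η ⟨uE h a b, uE_mem h a b⟩ + η' ⟨uE h a b, uE_mem h a b⟩ = 0
  rho_ne : ρ ≠ 0
  supp : ∀ a b, a ≠ 0 → a ≠ ρ → η ⟨uE h a b, uE_mem h a b⟩ = 0
  norm : ∀ b, η ⟨uE h ρ b, uE_mem h ρ b⟩ * conj (η ⟨uE h ρ b, uE_mem h ρ b⟩) = 2 ^ (2 * m)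

theorem exists_etaData : ∃ φ η η' ρ, EtaData h φ η η' ρ := by
  classical
  have := h.finite
  have := finite_G h
  let : Fintype (unip h) := Fintype.ofFinite _
  let : Fintype (Subgroup.center (unip h)) := Fintype.ofFinite _
  obtain ⟨φ, hφ⟩ := exists_signChar h
  obtain ⟨η, η', hη, hη', -, hμ, h0, h0', ρ, hρ, hs, hn⟩ := exists_eta h hφ
  refine ⟨φ, η, η', ρ, hφ, hη, hη', h0, h0', fun a b ha => ?_, hρ, hs, hn⟩
  have h1 : Cfsg.indFun (Subgroup.center (unip h)) (muCenter h φ)
      (⟨uE h a b, uE_mem h a b⟩ : unip h) = 0 := by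
    refine CfsgLib.Char.indFun_eq_zero_of_normal _ fun hc => ?_
    obtain ⟨b', e⟩ := (mem_center_unip_iff h).1 hc
    exact ha (uE_inj h e).1
  rw [hμ] at h1
  simp only [Pi.smul_apply, Pi.add_apply, smul_eq_mul] at h1
  exact (mul_eq_zero.1 h1).resolve_left (pow_ne_zero _ two_ne_zero)

variable {φ : F → ℂ} {η η' : unip h → ℂ} {ρ : F}

theorem EtaData.sum_units (E : EtaData h φ η η' ρ) [Fintype F] [DecidableEq F] {b : F}
    (hb : b ≠ 0) : ∑ t : Fˣ, φ (lam m t * b) = -1 := by
  exact ((lam_units_bijective h).sum_comp (fun s : Fˣ => φ ((s : F) * b))).trans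
    (E.isSign.sum_units_mul hb)

theorem EtaData.indU_center (E : EtaData h φ η η' ρ) [Fintype G] [Fintype F] [DecidableEq F]
    {b : F} (hb : b ≠ 0) :
    Cfsg.indFun (unip h) η (uE h 0 b) = -(2 ^ m) ∧
      Cfsg.indFun (unip h) η' (uE h 0 b) = -(2 ^ m) := by
  have := finite_G h
  have hne : uE h 0 b ≠ 1 := fun e => hb ((uE_eq_one h).1 e).2
  rw [indU_apply h (CfsgLib.Char.IsIrrCharacter.isClassFunction E.irr) hne,
    indU_apply h (CfsgLib.Char.IsIrrCharacter.isClassFunction E.irr') hne]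
  simp only [mul_zero, E.center, E.center', ← Finset.mul_sum, E.sum_units h hb]
  simp

theorem EtaData.indU_four (E : EtaData h φ η η' ρ) [Fintype G] [Fintype F] [DecidableEq F]
    {a b : F} (ha : a ≠ 0) :
    Cfsg.indFun (unip h) η' (uE h a b) = -Cfsg.indFun (unip h) η (uE h a b) ∧
      Cfsg.indFun (unip h) η (uE h a b) * conj (Cfsg.indFun (unip h) η (uE h a b)) =
        2 ^ (2 * m) := by
  classical
  have hne : uE h a b ≠ 1 := fun e => ha ((uE_eq_one h).1 e).1
  rw [indU_apply h (CfsgLib.Char.IsIrrCharacter.isClassFunction E.irr) hne,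
    indU_apply h (CfsgLib.Char.IsIrrCharacter.isClassFunction E.irr') hne]
  refine ⟨?_, ?_⟩
  · rw [← Finset.sum_neg_distrib]
    refine Finset.sum_congr rfl fun t _ => ?_
    exact eq_neg_of_add_eq_zero_right (E.add_eq_zero _ _ (mul_ne_zero (sg_ne_zero t.ne_zero) ha))
  · obtain ⟨t₀, ht₀⟩ := h.sg_bijective.2 (ρ / a)
    have ht0 : t₀ ≠ 0 := fun e => div_ne_zero E.rho_ne ha (by rw [← ht₀, e, sg_zero])
    rw [Finset.sum_eq_single (Units.mk0 t₀ ht0)]
    · have e : sg m ((Units.mk0 t₀ ht0 : Fˣ) : F) * a = ρ := by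
        rw [Units.val_mk0, ht₀, div_mul_cancel₀ _ ha]
      simp only [e]
      exact E.norm _
    · intro t _ hne'
      refine E.supp _ _ (mul_ne_zero (sg_ne_zero t.ne_zero) ha) fun e => hne' (Units.ext ?_)
      apply h.sg_injective
      rw [Units.val_mk0, ht₀, ← e, mul_div_cancel_right₀ _ ha]
    · exact fun e => absurd (Finset.mem_univ _) e

/-- The generic member of a family attached to a torus. -/
noncomputable def famChar [Fintype G] (η η' : unip h → ℂ) (φ : F → ℂ) (A : Subgroup G)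
    (θ : A →* ℂˣ) (e d : ℤ) : G → ℂ :=
  (e : ℂ) • Cfsg.indFun A (fun x => (θ x : ℂ)) +
    Cfsg.indFun (unip h) ((-(e : ℂ)) • lamLin h φ + (d : ℂ) • (η + η'))

theorem isGeneralized_famChar (E : EtaData h φ η η' ρ) [Fintype G] (A : Subgroup G)
    (θ : A →* ℂˣ) (e d : ℤ) : Cfsg.IsGeneralizedCharacter G (famChar h η η' φ A θ e d) := by
  classical
  have := finite_G h
  let : Fintype A := Fintype.ofFinite A
  let : Fintype (unip h) := Fintype.ofFinite _
  refine CfsgLib.Char.IsGeneralized.add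
    (CfsgLib.Char.IsGeneralized.intCast_smul (CfsgLib.Char.IsGeneralized.indFun
      (CfsgLib.Char.IsCharacter.isGeneralized (CfsgLib.Char.isCharacter_ofHom θ))) e)
    (CfsgLib.Char.IsGeneralized.indFun (CfsgLib.Char.IsGeneralized.add ?_ ?_))
  · have := CfsgLib.Char.IsGeneralized.intCast_smul (CfsgLib.Char.IsCharacter.isGeneralized
      (isCharacter_lamLin h E.isSign)) (-e)
    simpa using this
  · exact CfsgLib.Char.IsGeneralized.intCast_smul (CfsgLib.Char.IsCharacter.isGeneralized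
      (CfsgLib.Char.IsCharacter.add (CfsgLib.Char.IsIrrCharacter.isCharacter E.irr)
        (CfsgLib.Char.IsIrrCharacter.isCharacter E.irr'))) d

omit h in
theorem smul_indFun_split [Fintype G] {H : Subgroup G} (c d : ℂ) (f f₁ f₂ : H → ℂ) (g : G) :
    Cfsg.indFun H (c • f + d • (f₁ + f₂)) g =
      c * Cfsg.indFun H f g + d * (Cfsg.indFun H f₁ g + Cfsg.indFun H f₂ g) := by
  simp [CfsgLib.Char.indFun_add, CfsgLib.Char.indFun_smul, mul_add]

theorem centralizer_card_of_conj_unip {g : G} (hg : g ≠ 1) (hc : ∃ c : G, c * g * c⁻¹ ∈ unip h)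
    {k : ℕ} (hk : k ∈ torusOrders m) : Nat.card (Subgroup.centralizer ({g} : Set G)) ≠ k := by
  intro e
  obtain ⟨c, hc⟩ := hc
  rcases centralizer_cases h hg with ⟨d, -, hall⟩ | ⟨hcy, hk'⟩
  · have := finite_G h
    have h1 : Nat.card (Subgroup.centralizer ({g} : Set G)) ∣ Nat.card (unip h) := by
      refine Subgroup.card_dvd_of_injective
        (((MulAut.conj d).toMonoidHom.comp (Subgroup.centralizer ({g} : Set G)).subtype).codRestrict
          (unip h) fun x => hall x x.2) ?_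
      intro x y exy
      exact Subtype.ext ((MulAut.conj d).injective (congrArg Subtype.val exy))
    rw [e, card_unip, h.card, ← pow_mul] at h1
    have hcop : Nat.Coprime k (2 ^ ((2 * m + 1) * 2)) :=
      Nat.Coprime.pow_right _ ((Nat.prime_two.coprime_iff_not_dvd).2 (torusOrders_odd h hk)).symm
    have := Nat.eq_one_of_dvd_coprimes hcop dvd_rfl h1
    have := one_lt_of_torusOrders h hk
    omega
  · exact IsTorusElt.not_conj_unip h (show IsTorusElt g from ⟨hg, hcy, hk'⟩) c hc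

variable (A : Subgroup (SzG F m)) (θ : A →* ℂˣ) (e d : ℤ)

theorem EtaData.degree_eta (E : EtaData h φ η η' ρ) : η 1 = 2 ^ m ∧ η' 1 = 2 ^ m := by
  have e0 : (⟨uE h 0 0, uE_mem h 0 0⟩ : unip h) = 1 := Subtype.ext (uE_zero h)
  have h1 := E.center 0
  have h2 := E.center' 0
  rw [E.isSign.map_zero, mul_one, e0] at h1 h2
  exact ⟨h1, h2⟩

theorem famChar_one (E : EtaData h φ η η' ρ) [Fintype G] :
    famChar h η η' φ A θ e d 1 = (e : ℂ) * (A.index : ℂ) +
      ((Nat.card F : ℂ) ^ 2 + 1) * ((Nat.card F : ℂ) - 1) * (-(e : ℂ) + 2 * 2 ^ m * d) := by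
  simp only [famChar, Pi.add_apply, Pi.smul_apply, smul_eq_mul, indU_one h,
    CfsgLib.Char.indFun_one, map_one, Units.val_one, mul_one]
  have e1 : lamLin h φ 1 = 1 := by simp [lamLin, E.isSign.map_zero]
  rw [e1, (E.degree_eta h).1, (E.degree_eta h).2]
  ring

theorem famChar_center (E : EtaData h φ η η' ρ) [Fintype G] [Fintype F] (hA : IsTorus A) {b : F}
    (hb : b ≠ 0) : famChar h η η' φ A θ e d (uE h 0 b) =
      -(e : ℂ) * ((Nat.card F : ℂ) - 1) - 2 * 2 ^ m * d := by
  classical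
  have hne : uE h 0 b ≠ 1 := fun e => hb ((uE_eq_one h).1 e).2
  have hz : Cfsg.indFun A (fun x => (θ x : ℂ)) (uE h 0 b) = 0 :=
    indFun_torus_eq_zero h hA _ hne
      (centralizer_card_of_conj_unip h hne ⟨1, by simpa using uE_mem h 0 b⟩ hA.2)
  obtain ⟨e1, e2⟩ := E.indU_center h hb
  simp only [famChar, Pi.add_apply, Pi.smul_apply, smul_eq_mul, smul_indFun_split, hz,
    indU_lamLin h E.isSign hne, if_true, e1, e2]
  ring

theorem famChar_four (E : EtaData h φ η η' ρ) [Fintype G] [Fintype F] (hA : IsTorus A) {a : F}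
    (ha : a ≠ 0) (b : F) : famChar h η η' φ A θ e d (uE h a b) = (e : ℂ) := by
  classical
  have hne : uE h a b ≠ 1 := fun e => ha ((uE_eq_one h).1 e).1
  have hz : Cfsg.indFun A (fun x => (θ x : ℂ)) (uE h a b) = 0 :=
    indFun_torus_eq_zero h hA _ hne
      (centralizer_card_of_conj_unip h hne ⟨1, by simpa using uE_mem h a b⟩ hA.2)
  simp only [famChar, Pi.add_apply, Pi.smul_apply, smul_eq_mul, smul_indFun_split, hz,
    indU_lamLin h E.isSign hne, if_neg ha, (E.indU_four h ha (b := b)).1]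
  ring

theorem famChar_torus [Fintype G] {B : Subgroup G} (hB : IsTorus B) {g : G} (hg : g ∈ B)
    (hg1 : g ≠ 1) :
    famChar h η η' φ A θ e d g = (e : ℂ) * Cfsg.indFun A (fun x => (θ x : ℂ)) g := by
  have hT := (cyclic_torus_eq h hB.1 hB.2 hg hg1).1
  simp only [famChar, Pi.add_apply, Pi.smul_apply, smul_eq_mul,
    indU_eq_zero h _ (fun c hc => hT.not_conj_unip h c hc), add_zero]

theorem famChar_torus_other [Fintype G] (hA : IsTorus A) {B : Subgroup G} (hB : IsTorus B) {g : G}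
    (hg : g ∈ B) (hg1 : g ≠ 1) (hne : Nat.card B ≠ Nat.card A) :
    famChar h η η' φ A θ e d g = 0 := by
  rw [famChar_torus h A θ e d hB hg hg1, indFun_torus_eq_zero h hA _ hg1
    (by rw [hB.eq_centralizer h hg hg1]; exact hne), mul_zero]

omit h in
/-- The cosets of a torus normaliser, counted through the tori normalised by an element. -/
noncomputable def toriChar (k : ℕ) : SzG F m → ℂ := fun g => ((toriThrough g k).ncard : ℂ)

theorem isCharacter_toriChar [Fintype G] {k : ℕ} (hk : k ∈ torusOrders m) :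
    Cfsg.IsCharacter G (toriChar k) := by
  classical
  have := finite_G h
  obtain ⟨A, hA, hAk⟩ := exists_torus h hk
  set N := Subgroup.normalizer (A : Set G) with hN
  let : Fintype N := Fintype.ofFinite _
  suffices e : toriChar (F := F) (m := m) k = CfsgLib.Char.permChar N by
    rw [e]; exact CfsgLib.Char.IsCharacter.indFun CfsgLib.Char.isCharacter_one
  funext g
  rw [CfsgLib.Char.permChar_apply, toriChar, Nat.cast_inj, ← Nat.card_coe_set_eq]
  symm
  have hconj : ∀ c : G, IsTorus (conjBy c A) ∧ Nat.card (conjBy c A) = k := by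
    intro c
    have e : Nat.card (conjBy c A) = Nat.card A :=
      Subgroup.card_map_of_injective (MulAut.conj c).injective
    exact ⟨⟨(A.equivMapOfInjective _ (MulAut.conj c).injective).isCyclic.1 hA.1, e ▸ hA.2⟩,
      e.trans hAk⟩
  have hnorm : ∀ c x : G, x ∈ Subgroup.normalizer ((conjBy c A : Subgroup G) : Set G) ↔
      c⁻¹ * x * c ∈ N := by
    intro c x
    rw [show (conjBy c A : Subgroup G) = A.map (MulAut.conj c).toMonoidHom from rfl,
      ← Subgroup.map_equiv_normalizer_eq A (MulAut.conj c)]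
    exact mem_conjBy (M := N)
  have hsame : ∀ c d : G, conjBy c A = conjBy d A ↔ c⁻¹ * d ∈ N := by
    intro c d
    constructor
    · intro e
      refine Subgroup.mem_normalizer_iff.2 fun z => ?_
      have e' : conjBy (c⁻¹ * d) A = A := by
        rw [← conjBy_conjBy, ← e, conjBy_conjBy, inv_mul_cancel, conjBy_one]
      constructor
      · intro hz; rw [← e']; exact ⟨z, hz, rfl⟩
      · intro hz
        rw [← e', mem_conjBy] at hz
        convert hz using 1
        group
    · intro hn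
      have e' : conjBy (c⁻¹ * d) A = A := by
        ext z
        rw [mem_conjBy]
        exact ((Subgroup.mem_normalizer_iff''.1 hn) z).symm
      calc conjBy c A = conjBy c (conjBy (c⁻¹ * d) A) := by rw [e']
        _ = conjBy d A := by rw [conjBy_conjBy, mul_inv_cancel_left]
  refine Nat.card_congr (Equiv.ofBijective (fun x => (⟨conjBy (Quotient.out x.1) A,
    (hconj _).1, (hconj _).2, (hnorm _ g).2 ?_⟩ : toriThrough g k)) ⟨?_, ?_⟩)
  · have h1 : g • x.1 = x.1 := x.2
    rw [← Quotient.out_eq x.1] at h1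
    have h2 := QuotientGroup.eq.1 h1.symm
    have h2' : (Quotient.out x.1)⁻¹ * (g * Quotient.out x.1) ∈ N := h2
    rwa [← mul_assoc] at h2'
  · rintro ⟨x, hx⟩ ⟨y, hy⟩ e
    refine Subtype.ext ?_
    show x = y
    rw [← Quotient.out_eq x, ← Quotient.out_eq y]
    exact QuotientGroup.eq.2 ((hsame _ _).1 (congrArg Subtype.val e))
  · rintro ⟨B, hB, hBk, hgB⟩
    obtain ⟨c, hc⟩ := hA.exists_conj h hB (hAk.trans hBk.symm)
    have hout : conjBy (Quotient.out (QuotientGroup.mk c : G ⧸ N)) A = B :=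
      ((hsame _ _).2 (QuotientGroup.eq.1 (Quotient.out_eq _))).trans hc
    refine ⟨⟨QuotientGroup.mk c, ?_⟩, Subtype.ext hout⟩
    show g • (QuotientGroup.mk c : G ⧸ N) = QuotientGroup.mk c
    refine (QuotientGroup.eq.2 ?_).symm
    have := (hnorm c g).1 (hc ▸ hgB)
    simpa [smul_eq_mul, mul_assoc] using this

end CfsgLib.Suzuki
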