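/-
Suzuki group: the irreducible characters.
-/
import Cfsg.Agent.Suzuki.Chars.Values

set_option autoImplicit false

namespace CfsgLib.Suzuki

open scoped ComplexConjugate

variable {F : Type*} [Field F] {m : ℕ}

local notation "G" => SzG F m

variable (h : IsSzField F m)
include h

/-! ### Numerical facts -/

theorem split_mem : 2 ^ (2 * m + 1) - 1 ∈ torusOrders m := Set.mem_insert _ _

theorem plus_mem : 2 ^ (2 * m + 1) + 2 ^ (m + 1) + 1 ∈ torusOrders m :=
  Set.mem_insert_of_mem _ (Set.mem_insert _ _)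

theorem minus_mem : 2 ^ (2 * m + 1) - 2 ^ (m + 1) + 1 ∈ torusOrders m :=
  Set.mem_insert_of_mem _ (Set.mem_insert_of_mem _ rfl)

theorem cast_card_G : (Nat.card G : ℂ) =
    (Nat.card F : ℂ) ^ 2 * ((Nat.card F : ℂ) ^ 2 + 1) * ((Nat.card F : ℂ) - 1) := by
  rw [card_G h]
  push_cast [Nat.cast_sub (one_le_q h)]
  ring

theorem torusWeight_values :
    torusWeight m (2 ^ (2 * m + 1) - 1) = 2 ∧
      torusWeight m (2 ^ (2 * m + 1) + 2 ^ (m + 1) + 1) = 4 ∧
      torusWeight m (2 ^ (2 * m + 1) - 2 ^ (m + 1) + 1) = 4 := by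
  obtain ⟨d12, d13, -⟩ := torusOrders_distinct h
  exact ⟨if_pos rfl, if_neg d12.symm, if_neg d13.symm⟩

theorem sq_add_one : (Nat.card F : ℂ) ^ 2 + 1 =
    ((Nat.card F : ℂ) + 2 * 2 ^ m + 1) * ((Nat.card F : ℂ) - 2 * 2 ^ m + 1) := by
  rw [cast_q h]; ring

theorem cast_numTori :
    (numTori F m (2 ^ (2 * m + 1) - 1) : ℂ) =
        (Nat.card F : ℂ) ^ 2 * ((Nat.card F : ℂ) ^ 2 + 1) / 2 ∧
      (numTori F m (2 ^ (2 * m + 1) + 2 ^ (m + 1) + 1) : ℂ) =
        (Nat.card F : ℂ) ^ 2 * ((Nat.card F : ℂ) - 1) * ((Nat.card F : ℂ) - 2 * 2 ^ m + 1) / 4 ∧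
      (numTori F m (2 ^ (2 * m + 1) - 2 ^ (m + 1) + 1) : ℂ) =
        (Nat.card F : ℂ) ^ 2 * ((Nat.card F : ℂ) - 1) * ((Nat.card F : ℂ) + 2 * 2 ^ m + 1) / 4 := by
  have hpos : ∀ k ∈ torusOrders m, (k : ℂ) ≠ 0 := fun k hk =>
    Nat.cast_ne_zero.2 (by have := one_lt_of_torusOrders h hk; omega)
  have e : ∀ k ∈ torusOrders m, (numTori F m k : ℂ) * ((torusWeight m k : ℂ) * (k : ℂ)) =
      (Nat.card G : ℂ) := fun k hk => by
    rw [← numTori_mul hk h]; push_cast; rfl
  obtain ⟨w0, w1, w2⟩ := torusWeight_values h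
  obtain ⟨c0, c1, c2⟩ := cast_torusOrders h
  refine ⟨?_, ?_, ?_⟩
  · have e0 := e _ (split_mem h)
    have hk := hpos _ (split_mem h)
    rw [w0, c0, cast_card_G h] at e0
    rw [c0] at hk
    refine mul_right_cancel₀ (mul_ne_zero (two_ne_zero' ℂ) hk) ?_
    push_cast at e0
    linear_combination e0
  · have e0 := e _ (plus_mem h)
    have hk := hpos _ (plus_mem h)
    rw [w1, c1, cast_card_G h, sq_add_one h] at e0
    rw [c1] at hk
    refine mul_right_cancel₀ (mul_ne_zero (by norm_num : (4 : ℂ) ≠ 0) hk) ?_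
    push_cast at e0
    linear_combination e0
  · have e0 := e _ (minus_mem h)
    have hk := hpos _ (minus_mem h)
    rw [w2, c2, cast_card_G h, sq_add_one h] at e0
    rw [c2] at hk
    refine mul_right_cancel₀ (mul_ne_zero (by norm_num : (4 : ℂ) ≠ 0) hk) ?_
    push_cast at e0
    linear_combination e0

theorem cast_index {A : Subgroup G} :
    (A.index : ℂ) * (Nat.card A : ℂ) = (Nat.card G : ℂ) := by
  rw [← Nat.cast_mul, A.index_mul_card]

theorem cast_sub_one (k : ℕ) (hk : k ∈ torusOrders m) : ((k - 1 : ℕ) : ℂ) = (k : ℂ) - 1 := by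
  rw [Nat.cast_sub (by have := one_lt_of_torusOrders h hk; omega), Nat.cast_one]

/-! ### Squared norms -/

theorem sum_unip_sharp [Fintype G] [Fintype F] [DecidableEq F] {f : G → ℂ} {vz vf : ℂ}
    (hz : ∀ b, b ≠ 0 → f (uE h 0 b) = vz) (hf : ∀ a b, a ≠ 0 → f (uE h a b) = vf) :
    ∑ u ∈ sharp (unip h), f u = ((Nat.card F : ℂ) - 1) * vz +
      ((Nat.card F : ℂ) ^ 2 - (Nat.card F : ℂ)) * vf := by
  classical
  have h1 : ∑ u ∈ sharp (unip h), f u =
      ∑ r ∈ (Finset.univ : Finset (F × F)).erase (0, 0), f (uE h r.1 r.2) := by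
    refine (Finset.sum_bij (fun r _ => uE h r.1 r.2) ?_ ?_ ?_ fun _ _ => rfl).symm
    · intro r hr
      rw [mem_sharp]
      refine ⟨uE_mem h _ _, fun e => (Finset.mem_erase.1 hr).1 ?_⟩
      obtain ⟨e1, e2⟩ := (uE_eq_one h).1 e
      exact Prod.ext e1 e2
    · intro r _ s _ e
      exact Prod.ext (uE_inj h e).1 (uE_inj h e).2
    · intro u hu
      rw [mem_sharp] at hu
      obtain ⟨a, b, rfl⟩ := exists_uE h hu.1
      refine ⟨(a, b), Finset.mem_erase.2 ⟨fun e => hu.2 ?_, Finset.mem_univ _⟩, rfl⟩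
      rw [Prod.mk.injEq] at e
      rw [e.1, e.2, uE_zero]
  rw [h1, ← Finset.sum_filter_add_sum_filter_not _ (fun r : F × F => r.1 = 0),
    Finset.sum_congr rfl (g := fun _ => vz) (fun r hr => ?_),
    Finset.sum_congr (s₁ := ((Finset.univ : Finset (F × F)).erase (0, 0)).filter fun r => ¬ r.1 = 0)
      rfl (g := fun _ => vf) (fun r hr => hf _ _ (Finset.mem_filter.1 hr).2)]
  · have hA : ((Finset.univ : Finset (F × F)).erase (0, 0)).filter (fun r => r.1 = 0) =
        ({0} : Finset F) ×ˢ (Finset.univ : Finset F).erase 0 := by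
      ext ⟨a, b⟩
      simp only [Finset.mem_filter, Finset.mem_erase, Finset.mem_univ, and_true, Finset.mem_product,
        Finset.mem_singleton, ne_eq, Prod.mk.injEq, not_and]
      constructor
      · rintro ⟨h', rfl⟩; exact ⟨rfl, h' rfl⟩
      · rintro ⟨rfl, hb⟩; exact ⟨fun _ => hb, rfl⟩
    have hB : ((Finset.univ : Finset (F × F)).erase (0, 0)).filter (fun r => ¬ r.1 = 0) =
        (Finset.univ : Finset F).erase 0 ×ˢ (Finset.univ : Finset F) := by
      ext ⟨a, b⟩
      simp only [Finset.mem_filter, Finset.mem_erase, Finset.mem_univ, and_true, Finset.mem_product,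
        ne_eq, Prod.mk.injEq, not_and]
      exact ⟨fun hh => hh.2, fun ha => ⟨fun e => absurd e ha, ha⟩⟩
    rw [hA, hB, Finset.sum_const, Finset.sum_const, Finset.card_product, Finset.card_product,
      Finset.card_singleton, one_mul, Finset.card_erase_of_mem (Finset.mem_univ _), Finset.card_univ,
      ← Nat.card_eq_fintype_card, nsmul_eq_mul, nsmul_eq_mul]
    push_cast [Nat.cast_sub (one_le_q h)]
    ring
  · obtain ⟨hr1, hr2⟩ := Finset.mem_filter.1 hr
    obtain ⟨a, b⟩ := r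
    obtain rfl : a = 0 := hr2
    exact hz b fun e => (Finset.mem_erase.1 hr1).1 (by rw [e])

theorem sum_sharp_const [Fintype G] {k : ℕ} (hk : k ∈ torusOrders m) {f : G → ℂ} {v : ℂ}
    (hf : ∀ a ∈ sharp (torusRep h hk), f a = v) :
    ∑ a ∈ sharp (torusRep h hk), f a = ((k : ℂ) - 1) * v := by
  rw [Finset.sum_congr rfl hf, Finset.sum_const, card_sharp, (torusRep_spec h hk).2, nsmul_eq_mul,
    cast_sub_one h k hk]

theorem sum_sharp_sq [Fintype G] {f : G → ℂ} (hf : Cfsg.IsClassFunction G f) {A : Subgroup G}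
    (hA : IsTorus A) {k : ℕ} (hk : k ∈ torusOrders m) (e : Nat.card A = k) :
    ∑ a ∈ sharp (torusRep h hk), f a * conj (f a) = ∑ a ∈ sharp A, f a * conj (f a) := by
  obtain ⟨c, hc⟩ := hA.exists_conj h (torusRep_spec h hk).1 (e.trans (torusRep_spec h hk).2.symm)
  rw [← hc]
  exact sum_sharp_conj (f := fun g => f g * conj (f g)) (fun g x => by simp only [hf g x]) c A

theorem classInner_eq_types [Fintype G] [Fintype F] [DecidableEq F] {f : G → ℂ}
    (hf : Cfsg.IsClassFunction G f) {vz vf S0 S1 S2 : ℂ}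
    (hz : ∀ b, b ≠ 0 → f (uE h 0 b) * conj (f (uE h 0 b)) = vz)
    (hv : ∀ a b, a ≠ 0 → f (uE h a b) * conj (f (uE h a b)) = vf)
    (h0 : ∑ a ∈ sharp (torusRep h (split_mem h)), f a * conj (f a) = S0)
    (h1 : ∑ a ∈ sharp (torusRep h (plus_mem h)), f a * conj (f a) = S1)
    (h2 : ∑ a ∈ sharp (torusRep h (minus_mem h)), f a * conj (f a) = S2) :
    Cfsg.classInner f f = (Nat.card G : ℂ)⁻¹ * (f 1 * conj (f 1) +
      ((Nat.card F : ℂ) ^ 2 + 1) * (((Nat.card F : ℂ) - 1) * vz +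
        ((Nat.card F : ℂ) ^ 2 - (Nat.card F : ℂ)) * vf) +
      ((Nat.card F : ℂ) ^ 2 * ((Nat.card F : ℂ) ^ 2 + 1) / 2 * S0 +
        ((Nat.card F : ℂ) ^ 2 * ((Nat.card F : ℂ) - 1) * ((Nat.card F : ℂ) - 2 * 2 ^ m + 1) / 4 * S1 +
          (Nat.card F : ℂ) ^ 2 * ((Nat.card F : ℂ) - 1) * ((Nat.card F : ℂ) + 2 * 2 ^ m + 1) / 4 *
            S2))) := by
  obtain ⟨n0, n1, n2⟩ := cast_numTori h
  rw [CfsgLib.Char.classInner_def, sum_classes h (f := fun g => f g * conj (f g))
    (fun g x => by simp only [hf g x]), sum_unip_sharp h (f := fun g => f g * conj (f g)) hz hv,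
    h0, h1, h2, n0, n1, n2]
  push_cast
  rfl

/-! ### The characters -/

variable {φ : F → ℂ} {η η' : unip h → ℂ} {ρ : F}

theorem EtaData.swap (E : EtaData h φ η η' ρ) : EtaData h φ η' η ρ where
  isSign := E.isSign
  irr := E.irr'
  irr' := E.irr
  center := E.center'
  center' := E.center
  add_eq_zero a b ha := by rw [add_comm]; exact E.add_eq_zero a b ha
  rho_ne := E.rho_ne
  supp a b ha hne := by rw [eq_neg_of_add_eq_zero_right (E.add_eq_zero a b ha), E.supp a b ha hne,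
    neg_zero]
  norm b := by
    rw [eq_neg_of_add_eq_zero_right (E.add_eq_zero ρ b E.rho_ne), map_neg, neg_mul_neg, E.norm b]

theorem indFun_trivial [Fintype G] {A : Subgroup G} (hA : IsTorus A) {a : G} (ha : a ∈ A)
    (ha1 : a ≠ 1) :
    Cfsg.indFun A (fun x => ((1 : A →* ℂˣ) x : ℂ)) a = (torusWeight m (Nat.card A) : ℂ) := by
  classical
  set N := Subgroup.normalizer (A : Set G)
  let : Fintype N := Fintype.ofFinite N
  rw [indFun_torus_apply h hA _ ha ha1,
    Finset.sum_congr rfl (g := fun _ => (1 : ℂ)) (fun n _ =>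
      (CfsgLib.Char.extendByZero_of_mem _ ((Subgroup.mem_normalizer_iff''.1 n.2 a).1 ha)).trans
        (by simp)),
    Finset.sum_const, Finset.card_univ, ← Nat.card_eq_fintype_card, hA.card_normalizer h,
    nsmul_eq_mul, mul_one, Nat.cast_mul, mul_left_comm,
    inv_mul_cancel₀ (Nat.cast_ne_zero.2 Nat.card_pos.ne'), mul_one]

/-- Degree of a family member. -/
theorem famChar_degree (E : EtaData h φ η η' ρ) [Fintype G] {A : Subgroup G} (θ : A →* ℂˣ) :
    (Nat.card A = 2 ^ (2 * m + 1) - 1 →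
      famChar h η η' φ A θ 1 (-(2 ^ m : ℤ)) 1 = (Nat.card F : ℂ) ^ 2 + 1) ∧
    (Nat.card A = 2 ^ (2 * m + 1) + 2 ^ (m + 1) + 1 →
      famChar h η η' φ A θ (-1) ((2 ^ m : ℤ) - 1) 1 =
        ((Nat.card F : ℂ) - 1) * ((Nat.card F : ℂ) - 2 * 2 ^ m + 1)) ∧
    (Nat.card A = 2 ^ (2 * m + 1) - 2 ^ (m + 1) + 1 →
      famChar h η η' φ A θ (-1) ((2 ^ m : ℤ) + 1) 1 =
        ((Nat.card F : ℂ) - 1) * ((Nat.card F : ℂ) + 2 * 2 ^ m + 1)) := by
  obtain ⟨c0, c1, c2⟩ := cast_torusOrders h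
  have ei := cast_index h (A := A)
  have hk0 : (Nat.card A : ℂ) ≠ 0 := Nat.cast_ne_zero.2 (by
    have := finite_G h; exact Nat.card_pos.ne')
  refine ⟨fun hA => ?_, fun hA => ?_, fun hA => ?_⟩
  · rw [hA, c0, cast_card_G h] at ei
    rw [hA, c0] at hk0
    have e1 : (A.index : ℂ) = (Nat.card F : ℂ) ^ 2 * ((Nat.card F : ℂ) ^ 2 + 1) :=
      mul_right_cancel₀ hk0 ei
    rw [famChar_one h A θ 1 _ E, e1]
    push_cast
    rw [cast_q h]
    ring
  · rw [hA, c1, cast_card_G h, sq_add_one h] at ei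
    rw [hA, c1] at hk0
    have e1 : (A.index : ℂ) = (Nat.card F : ℂ) ^ 2 * ((Nat.card F : ℂ) - 1) *
        ((Nat.card F : ℂ) - 2 * 2 ^ m + 1) := mul_right_cancel₀ hk0 (by linear_combination ei)
    rw [famChar_one h A θ _ _ E, e1]
    push_cast
    rw [cast_q h]
    ring
  · rw [hA, c2, cast_card_G h, sq_add_one h] at ei
    rw [hA, c2] at hk0
    have e1 : (A.index : ℂ) = (Nat.card F : ℂ) ^ 2 * ((Nat.card F : ℂ) - 1) *
        ((Nat.card F : ℂ) + 2 * 2 ^ m + 1) := mul_right_cancel₀ hk0 (by linear_combination ei)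
    rw [famChar_one h A θ _ _ E, e1]
    push_cast
    rw [cast_q h]
    ring

theorem conj_q : conj (Nat.card F : ℂ) = (Nat.card F : ℂ) := Complex.conj_natCast _

theorem conj_two_pow : conj ((2 : ℂ) ^ m) = (2 : ℂ) ^ m := by rw [map_pow, map_ofNat]

/-- Members of the three families are irreducible. -/
theorem famChar_isIrr (E : EtaData h φ η η' ρ) [Fintype G] {A : Subgroup G} (hA : IsTorus A)
    {θ : A →* ℂˣ} (hθ : θ ≠ 1) :
    (Nat.card A = 2 ^ (2 * m + 1) - 1 →
      Cfsg.IsIrrCharacter G (famChar h η η' φ A θ 1 (-(2 ^ m : ℤ)))) ∧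
    (Nat.card A = 2 ^ (2 * m + 1) + 2 ^ (m + 1) + 1 →
      Cfsg.IsIrrCharacter G (famChar h η η' φ A θ (-1) ((2 ^ m : ℤ) - 1))) ∧
    (Nat.card A = 2 ^ (2 * m + 1) - 2 ^ (m + 1) + 1 →
      Cfsg.IsIrrCharacter G (famChar h η η' φ A θ (-1) ((2 ^ m : ℤ) + 1))) := by
  classical
  have := h.finite
  let : Fintype F := Fintype.ofFinite F
  obtain ⟨d12, d13, d23⟩ := torusOrders_distinct h
  obtain ⟨w0, w1, w2⟩ := torusWeight_values h
  obtain ⟨c0, c1, c2⟩ := cast_torusOrders h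
  have hG : (Nat.card G : ℂ) ≠ 0 := Nat.cast_ne_zero.2 (by have := finite_G h; exact Nat.card_pos.ne')
  have hz : ∀ (e d : ℤ), ∀ b : F, b ≠ 0 →
      famChar h η η' φ A θ e d (uE h 0 b) * conj (famChar h η η' φ A θ e d (uE h 0 b)) =
        (-(e : ℂ) * ((Nat.card F : ℂ) - 1) - 2 * 2 ^ m * d) ^ 2 := by
    intro e d b hb
    rw [famChar_center h A θ e d E hA hb, pow_two]
    congr 1
    simp only [map_sub, map_mul, map_neg, map_one, Complex.conj_natCast, map_intCast, map_pow,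
      map_ofNat]
  have hf : ∀ (e d : ℤ), ∀ a b : F, a ≠ 0 →
      famChar h η η' φ A θ e d (uE h a b) * conj (famChar h η η' φ A θ e d (uE h a b)) =
        (e : ℂ) ^ 2 := by
    intro e d a b ha
    rw [famChar_four h A θ e d E hA ha b, map_intCast, pow_two]
  have hcl : ∀ e d, Cfsg.IsClassFunction G (famChar h η η' φ A θ e d) := fun e d =>
    CfsgLib.Char.IsGeneralized.isClassFunction (isGeneralized_famChar h E A θ e d)
  have hown : ∀ (e d : ℤ) {k : ℕ} (hk : k ∈ torusOrders m), Nat.card A = k →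
      ∑ a ∈ sharp (torusRep h hk), famChar h η η' φ A θ e d a * conj (famChar h η η' φ A θ e d a) =
        (e : ℂ) ^ 2 * ((torusWeight m k : ℂ) * (k : ℂ) - (torusWeight m k : ℂ) ^ 2) := by
    intro e d k hk hAk
    rw [sum_sharp_sq h (hcl e d) hA hk hAk, ← hAk, ← norm_indFun_torus h hA hθ, Finset.mul_sum]
    refine Finset.sum_congr rfl fun a ha => ?_
    rw [famChar_torus h A θ e d hA (mem_sharp.1 ha).1 (mem_sharp.1 ha).2, map_mul, map_intCast]
    ring
  have hother : ∀ (e d : ℤ) {k : ℕ} (hk : k ∈ torusOrders m), Nat.card A ≠ k →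
      ∑ a ∈ sharp (torusRep h hk), famChar h η η' φ A θ e d a * conj (famChar h η η' φ A θ e d a) =
        0 := by
    intro e d k hk hne
    refine Finset.sum_eq_zero fun a ha => ?_
    rw [famChar_torus_other h A θ e d hA (torusRep_spec h hk).1 (mem_sharp.1 ha).1
      (mem_sharp.1 ha).2 (by rw [(torusRep_spec h hk).2]; exact fun e => hne e.symm), zero_mul]
  have hfin : ∀ (e d : ℤ) {D : ℕ}, famChar h η η' φ A θ e d 1 = (D : ℂ) →
      Cfsg.classInner (famChar h η η' φ A θ e d) (famChar h η η' φ A θ e d) = 1 →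
      Cfsg.IsIrrCharacter G (famChar h η η' φ A θ e d) := by
    intro e d D hD h1
    refine (CfsgLib.Char.IsGeneralized.isIrr_or_neg (isGeneralized_famChar h E A θ e d)
      h1).resolve_right fun hneg => ?_
    obtain ⟨n, hn, hn'⟩ := CfsgLib.Char.IsIrrCharacter.exists_degree hneg
    rw [Pi.neg_apply, hD] at hn'
    have h0 : ((n + D : ℕ) : ℂ) = 0 := by push_cast; rw [← hn']; ring
    rw [Nat.cast_eq_zero] at h0
    omega
  obtain ⟨g0, g1, g2⟩ := famChar_degree h E (A := A) θ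
  refine ⟨fun hAk => ?_, fun hAk => ?_, fun hAk => ?_⟩
  · refine hfin 1 _ (D := Nat.card F ^ 2 + 1) (by rw [g0 hAk]; push_cast; rfl) ?_
    rw [classInner_eq_types h (hcl _ _) (hz _ _) (hf _ _) (hown _ _ (split_mem h) hAk)
      (hother _ _ (plus_mem h) (fun e => d12 (hAk.symm.trans e)))
      (hother _ _ (minus_mem h) (fun e => d13 (hAk.symm.trans e))), g0 hAk, inv_mul_eq_one₀ hG,
      cast_card_G h, w0, c0]
    simp only [map_add, map_pow, map_one, Complex.conj_natCast]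
    push_cast
    rw [cast_q h]
    ring
  · refine hfin (-1) _ (D := (Nat.card F - 1) * (2 ^ (2 * m + 1) - 2 ^ (m + 1) + 1)) ?_ ?_
    · rw [g1 hAk, Nat.cast_mul, Nat.cast_sub (one_le_q h), c2, Nat.cast_one]
    rw [classInner_eq_types h (hcl _ _) (hz _ _) (hf _ _)
      (hother _ _ (split_mem h) (fun e => d12 (e.symm.trans hAk))) (hown _ _ (plus_mem h) hAk)
      (hother _ _ (minus_mem h) (fun e => d23 (hAk.symm.trans e))), g1 hAk, inv_mul_eq_one₀ hG,
      cast_card_G h, w1, c1]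
    simp only [map_mul, map_add, map_sub, map_pow, map_one, map_ofNat, Complex.conj_natCast]
    push_cast
    rw [cast_q h]
    ring
  · refine hfin (-1) _ (D := (Nat.card F - 1) * (2 ^ (2 * m + 1) + 2 ^ (m + 1) + 1)) ?_ ?_
    · rw [g2 hAk, Nat.cast_mul, Nat.cast_sub (one_le_q h), c1, Nat.cast_one]
    rw [classInner_eq_types h (hcl _ _) (hz _ _) (hf _ _)
      (hother _ _ (split_mem h) (fun e => d13 (e.symm.trans hAk)))
      (hother _ _ (plus_mem h) (fun e => d23 (e.symm.trans hAk))) (hown _ _ (minus_mem h) hAk),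
      g2 hAk, inv_mul_eq_one₀ hG, cast_card_G h, w2, c2]
    simp only [map_mul, map_add, map_sub, map_pow, map_one, map_ofNat, Complex.conj_natCast]
    push_cast
    rw [cast_q h]
    ring

/-- The Steinberg character. -/
noncomputable def stChar [Fintype G] (η η' : unip h → ℂ) (φ : F → ℂ) : G → ℂ :=
  famChar h η η' φ (torusRep h (split_mem h)) 1 1 (-(2 ^ m : ℤ)) - fun _ => 1

theorem stChar_values (E : EtaData h φ η η' ρ) [Fintype G] [Fintype F] :
    stChar h η η' φ 1 = (Nat.card F : ℂ) ^ 2 ∧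
      (∀ b, b ≠ 0 → stChar h η η' φ (uE h 0 b) = 0) ∧
      (∀ a b, a ≠ 0 → stChar h η η' φ (uE h a b) = 0) ∧
      ∀ {B : Subgroup G}, IsTorus B → ∀ g ∈ B, g ≠ 1 →
        stChar h η η' φ g = if Nat.card B = 2 ^ (2 * m + 1) - 1 then 1 else -1 := by
  classical
  obtain ⟨hA, hAk⟩ := torusRep_spec h (split_mem h)
  obtain ⟨w0, -, -⟩ := torusWeight_values h
  refine ⟨?_, fun b hb => ?_, fun a b ha => ?_, ?_⟩
  · rw [stChar, Pi.sub_apply, (famChar_degree h E _).1 hAk]; ring
  · rw [stChar, Pi.sub_apply, famChar_center h _ _ _ _ E hA hb]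
    push_cast
    rw [cast_q h]; ring
  · rw [stChar, Pi.sub_apply, famChar_four h _ _ _ _ E hA ha b]; simp
  · intro B hB g hg hg1
    rw [stChar, Pi.sub_apply]
    split_ifs with hk
    · obtain ⟨c, hc⟩ := hB.exists_conj h hA (hk.trans hAk.symm)
      rw [famChar_torus h _ _ _ _ hB hg hg1]
      have hmem : c * g * c⁻¹ ∈ torusRep h (split_mem h) := hc ▸ ⟨g, hg, rfl⟩
      rw [← CfsgLib.Char.isClassFunction_indFun _ _ g c,
        indFun_trivial h hA hmem (fun e => hg1 (conj_eq_one_iff.1 e)), hAk, w0]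
      norm_num
    · rw [famChar_torus_other h _ _ _ _ hA hB hg hg1 (by rw [hAk]; exact hk)]
      norm_num

theorem stChar_isIrr (E : EtaData h φ η η' ρ) [Fintype G] :
    Cfsg.IsIrrCharacter G (stChar h η η' φ) := by
  classical
  have := h.finite
  let : Fintype F := Fintype.ofFinite F
  obtain ⟨v1, vz, vf, vt⟩ := stChar_values h E
  obtain ⟨c0, c1, c2⟩ := cast_torusOrders h
  obtain ⟨d12, d13, -⟩ := torusOrders_distinct h
  have hgen : Cfsg.IsGeneralizedCharacter G (stChar h η η' φ) :=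
    CfsgLib.Char.IsGeneralized.sub (isGeneralized_famChar h E _ _ _ _) CfsgLib.Char.isGeneralized_one
  have hG : (Nat.card G : ℂ) ≠ 0 := Nat.cast_ne_zero.2 (by have := finite_G h; exact Nat.card_pos.ne')
  have hsum : ∀ {k : ℕ} (hk : k ∈ torusOrders m),
      ∑ a ∈ sharp (torusRep h hk), stChar h η η' φ a * conj (stChar h η η' φ a) = (k : ℂ) - 1 := by
    intro k hk
    rw [sum_sharp_const h hk (v := 1), mul_one]
    intro a ha
    rw [vt (torusRep_spec h hk).1 a (mem_sharp.1 ha).1 (mem_sharp.1 ha).2]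
    split_ifs <;> simp
  refine (CfsgLib.Char.IsGeneralized.isIrr_or_neg hgen ?_).resolve_right fun hneg => ?_
  · rw [classInner_eq_types h (CfsgLib.Char.IsGeneralized.isClassFunction hgen) (vz := 0) (vf := 0)
      (fun b hb => by rw [vz b hb, zero_mul]) (fun a b ha => by rw [vf a b ha, zero_mul])
      (hsum (split_mem h)) (hsum (plus_mem h)) (hsum (minus_mem h)), v1, inv_mul_eq_one₀ hG,
      cast_card_G h, c0, c1, c2, map_pow, Complex.conj_natCast]
    rw [cast_q h]; ring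
  · obtain ⟨n, hn, hn'⟩ := CfsgLib.Char.IsIrrCharacter.exists_degree hneg
    rw [Pi.neg_apply, v1] at hn'
    have h0 : ((n + Nat.card F ^ 2 : ℕ) : ℂ) = 0 := by push_cast; rw [← hn']; ring
    rw [Nat.cast_eq_zero] at h0
    omega

/-- The two cuspidal unipotent characters. -/
noncomputable def wChar [Fintype G] (η : unip h → ℂ) : G → ℂ :=
  toriChar (2 ^ (2 * m + 1) + 2 ^ (m + 1) + 1) - toriChar (2 ^ (2 * m + 1) - 2 ^ (m + 1) + 1) +
    Cfsg.indFun (unip h) η

theorem toriChar_two {x : G} {k : ℕ} (hx : orderOf x = 2) (hk : k ∈ torusOrders m)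
    (hw : torusWeight m k = 4) : toriChar k x = (Nat.card F : ℂ) ^ 2 / 4 := by
  have e := ncard_toriThrough_two h hx hk
  rw [hw] at e
  rw [toriChar, eq_div_iff (by norm_num : (4 : ℂ) ≠ 0)]
  exact_mod_cast e

theorem toriChar_four {x : G} {k : ℕ} (hx : orderOf x = 4) (hk : k ∈ torusOrders m)
    (hk1 : k ≠ 2 ^ (2 * m + 1) - 1) : toriChar k x = (Nat.card F : ℂ) / 2 := by
  have e := ncard_toriThrough_four h hx hk hk1
  have e' : ((toriThrough x k).ncard : ℂ) * 4 = 2 * (Nat.card F : ℂ) := by exact_mod_cast e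
  rw [toriChar]
  linear_combination e' / 4

theorem toriChar_torus [DecidableEq ℕ] {B : Subgroup G} (hB : IsTorus B) {g : G} (hg : g ∈ B)
    (hg1 : g ≠ 1) (k : ℕ) : toriChar k g = if Nat.card B = k then 1 else 0 := by
  have hC := hB.eq_centralizer h hg hg1
  have hdvd : orderOf g ∣ Nat.card B := Subgroup.orderOf_dvd_natCard B hg
  have huni : ∀ D, IsTorus D → g ∈ Subgroup.normalizer (D : Set G) → D = B := fun D hD hgD =>
    (tori_through_odd h hB.2 hg1 hdvd hD hgD).trans hC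
  split_ifs with hk
  · have e : toriThrough g k = {B} := by
      ext D
      constructor
      · rintro ⟨hD, -, hgD⟩; exact huni D hD hgD
      · rintro rfl; exact ⟨hB, hk, Subgroup.le_normalizer hg⟩
    rw [toriChar, e, Set.ncard_singleton, Nat.cast_one]
  · have e : toriThrough g k = ∅ := by
      refine Set.eq_empty_iff_forall_notMem.2 ?_
      rintro D ⟨hD, hDk, hgD⟩
      exact hk (huni D hD hgD ▸ hDk)
    rw [toriChar, e, Set.ncard_empty, Nat.cast_zero]

theorem toriChar_one (k : ℕ) : toriChar (F := F) (m := m) k 1 = (numTori F m k : ℂ) := by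
  rw [toriChar, numTori, ← Nat.card_coe_set_eq, Nat.cast_inj]
  refine Nat.card_congr (Equiv.setCongr (?_ : toriThrough (1 : G) k = {B | IsTorus B ∧ Nat.card B = k}))
  ext B
  exact ⟨fun hh => ⟨hh.1, hh.2.1⟩, fun hh => ⟨hh.1, hh.2, Subgroup.one_mem _⟩⟩

theorem wChar_values (E : EtaData h φ η η' ρ) [Fintype G] [Fintype F] [DecidableEq F] :
    wChar h η 1 = ((Nat.card F : ℂ) - 1) * 2 ^ m ∧
      (∀ b, b ≠ 0 → wChar h η (uE h 0 b) = -(2 ^ m)) ∧
      (∀ a b, a ≠ 0 → wChar h η (uE h a b) = Cfsg.indFun (unip h) η (uE h a b)) ∧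
      ∀ {B : Subgroup G}, IsTorus B → ∀ g ∈ B, g ≠ 1 → wChar h η g =
        (if Nat.card B = 2 ^ (2 * m + 1) + 2 ^ (m + 1) + 1 then 1 else 0) -
          (if Nat.card B = 2 ^ (2 * m + 1) - 2 ^ (m + 1) + 1 then 1 else 0) := by
  obtain ⟨-, n1, n2⟩ := cast_numTori h
  obtain ⟨-, w1, w2⟩ := torusWeight_values h
  obtain ⟨d12, d13, -⟩ := torusOrders_distinct h
  refine ⟨?_, fun b hb => ?_, fun a b ha => ?_, ?_⟩
  · simp only [wChar, Pi.add_apply, Pi.sub_apply, toriChar_one h, indU_one h, n1, n2,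
      (E.degree_eta h).1]
    ring
  · simp only [wChar, Pi.add_apply, Pi.sub_apply]
    rw [toriChar_two h (orderOf_uE_two h hb) (plus_mem h) w1,
      toriChar_two h (orderOf_uE_two h hb) (minus_mem h) w2, (E.indU_center h hb).1]
    ring
  · simp only [wChar, Pi.add_apply, Pi.sub_apply]
    rw [toriChar_four h (orderOf_uE_four h ha b) (plus_mem h) d12.symm,
      toriChar_four h (orderOf_uE_four h ha b) (minus_mem h) d13.symm]
    ring
  · intro B hB g hg hg1
    have hT := (cyclic_torus_eq h hB.1 hB.2 hg hg1).1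
    simp only [wChar, Pi.add_apply, Pi.sub_apply, toriChar_torus h hB hg hg1,
      indU_eq_zero h _ (fun c hc => hT.not_conj_unip h c hc), add_zero]

theorem wChar_isIrr (E : EtaData h φ η η' ρ) [Fintype G] :
    Cfsg.IsIrrCharacter G (wChar h η) := by
  classical
  have := h.finite
  have := finite_G h
  let : Fintype F := Fintype.ofFinite F
  let : Fintype (unip h) := Fintype.ofFinite _
  obtain ⟨v1, vz, vf, vt⟩ := wChar_values h E
  obtain ⟨c0, c1, c2⟩ := cast_torusOrders h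
  obtain ⟨d12, d13, d23⟩ := torusOrders_distinct h
  have hgen : Cfsg.IsGeneralizedCharacter G (wChar h η) :=
    CfsgLib.Char.IsGeneralized.add (CfsgLib.Char.IsGeneralized.sub
      (CfsgLib.Char.IsCharacter.isGeneralized (isCharacter_toriChar h (plus_mem h)))
      (CfsgLib.Char.IsCharacter.isGeneralized (isCharacter_toriChar h (minus_mem h))))
      (CfsgLib.Char.IsGeneralized.indFun (CfsgLib.Char.IsIrrCharacter.isGeneralized E.irr))
  have hG : (Nat.card G : ℂ) ≠ 0 := Nat.cast_ne_zero.2 Nat.card_pos.ne'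
  have hsum : ∀ {k : ℕ} (hk : k ∈ torusOrders m),
      ∑ a ∈ sharp (torusRep h hk), wChar h η a * conj (wChar h η a) =
        if k = 2 ^ (2 * m + 1) - 1 then 0 else (k : ℂ) - 1 := by
    intro k hk
    rw [sum_sharp_const h hk (v := if k = 2 ^ (2 * m + 1) - 1 then 0 else 1) (fun a ha => ?_)]
    · split_ifs <;> simp
    rw [vt (torusRep_spec h hk).1 a (mem_sharp.1 ha).1 (mem_sharp.1 ha).2, (torusRep_spec h hk).2]
    simp only [torusOrders, Set.mem_insert_iff, Set.mem_singleton_iff] at hk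
    rcases hk with e | e | e
    · rw [if_neg (fun e' => d12 (e.symm.trans e')), if_neg (fun e' => d13 (e.symm.trans e')),
        if_pos e]
      simp
    · rw [if_pos e, if_neg (fun e' => d23 (e.symm.trans e')), if_neg (fun e' => d12 (e'.symm.trans e))]
      simp
    · rw [if_neg (fun e' => d23 (e'.symm.trans e)), if_pos e, if_neg (fun e' => d13 (e'.symm.trans e))]
      simp
  refine (CfsgLib.Char.IsGeneralized.isIrr_or_neg hgen ?_).resolve_right fun hneg => ?_
  · rw [classInner_eq_types h (CfsgLib.Char.IsGeneralized.isClassFunction hgen)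
      (vz := (2 ^ m) * (2 ^ m)) (vf := 2 ^ (2 * m))
      (fun b hb => by rw [vz b hb, map_neg, map_pow, map_ofNat, neg_mul_neg])
      (fun a b ha => by rw [vf a b ha, (E.indU_four h ha).2])
      (hsum (split_mem h)) (hsum (plus_mem h)) (hsum (minus_mem h)), v1, inv_mul_eq_one₀ hG,
      cast_card_G h, if_pos rfl, if_neg d12.symm, if_neg d13.symm, c1, c2]
    simp only [map_mul, map_sub, map_pow, map_one, map_ofNat, Complex.conj_natCast]
    rw [cast_q h, mul_comm 2 m, pow_mul]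
    ring
  · obtain ⟨n, hn, hn'⟩ := CfsgLib.Char.IsIrrCharacter.exists_degree hneg
    rw [Pi.neg_apply, v1] at hn'
    have h0 : ((n + (Nat.card F - 1) * 2 ^ m : ℕ) : ℂ) = 0 := by
      push_cast [Nat.cast_sub (one_le_q h)]; rw [← hn']; ring
    rw [Nat.cast_eq_zero] at h0
    omega

theorem wChar_ne (E : EtaData h φ η η' ρ) [Fintype G] : wChar h η ≠ wChar h η' := by
  classical
  have := h.finite
  let : Fintype F := Fintype.ofFinite F
  intro e
  have h1 := congrFun e (uE h ρ 0)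
  obtain ⟨-, -, vf, -⟩ := wChar_values h E
  obtain ⟨-, -, vf', -⟩ := wChar_values h E.swap
  obtain ⟨e1, e2⟩ := E.indU_four h (b := (0 : F)) E.rho_ne
  rw [vf _ _ E.rho_ne, vf' _ _ E.rho_ne, e1] at h1
  have h2 : Cfsg.indFun (unip h) η (uE h ρ 0) = 0 := by linear_combination h1 / 2
  rw [h2, zero_mul] at e2
  exact pow_ne_zero _ two_ne_zero e2.symm

end CfsgLib.Suzuki
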