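/-
Suzuki group: completeness of the list of irreducible characters.
-/
import Cfsg.Agent.Suzuki.Chars.Table

set_option autoImplicit false

namespace CfsgLib.Suzuki

open scoped ComplexConjugate

variable {F : Type*} [Field F] {m : ℕ}

local notation "G" => SzG F m

variable (h : IsSzField F m)
include h

theorem finite_torusHom {A : Subgroup G} (hA : IsTorus A) :
    Nat.card (A →* ℂˣ) = Nat.card A ∧ Finite (A →* ℂˣ) := by
  have := finite_G h
  let : CommGroup A := hA.1.commGroup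
  have hc : commutator A = ⊥ := by
    rw [commutator_def, Subgroup.commutator_eq_bot_iff_le_centralizer]
    exact fun x _ => Subgroup.mem_centralizer_iff.2 fun y _ => mul_comm y x
  have e : Nat.card (A →* ℂˣ) = Nat.card A := by
    rw [CfsgLib.Char.card_hom_eq_index_commutator, hc, Subgroup.index_bot]
  exact ⟨e, Nat.finite_of_card_ne_zero (by rw [e]; exact Nat.card_pos.ne')⟩

/-- Equal orbit sums come from the same orbit of linear characters. -/
theorem exists_twist_of_eq [Fintype G] {A : Subgroup G} (hA : IsTorus A) {θ θ' : A →* ℂˣ}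
    (hθ' : θ' ≠ 1)
    (e : ∀ a ∈ sharp A, Cfsg.indFun A (fun x => (θ x : ℂ)) a =
      Cfsg.indFun A (fun x => (θ' x : ℂ)) a) :
    ∃ n, twistBy θ n = θ' := by
  classical
  set N := Subgroup.normalizer (A : Set G)
  let : Fintype N := Fintype.ofFinite N
  by_contra hno
  simp only [not_exists] at hno
  have hk : (Nat.card A : ℂ) ≠ 0 := Nat.cast_ne_zero.2 Nat.card_pos.ne'
  set S := (Finset.univ : Finset A).erase 1
  have hT : ∀ χ : A →* ℂˣ, ∑ a ∈ S, Cfsg.indFun A (fun x => (χ x : ℂ)) a * conj (θ' a : ℂ) =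
      (Nat.card A : ℂ)⁻¹ * ∑ n : N, ((if twistBy χ n = θ' then (Nat.card A : ℂ) else 0) - 1) := by
    intro χ
    rw [Finset.sum_congr rfl fun a ha => by
      rw [indFun_torus_apply h hA _ a.2 (fun e => (Finset.mem_erase.1 ha).1 (Subtype.ext e)),
        Finset.sum_congr rfl fun n _ => extendByZero_twist χ n a, mul_assoc, Finset.sum_mul],
      ← Finset.mul_sum, Finset.sum_comm]
    congr 1
    refine Finset.sum_congr rfl fun n _ => ?_
    have h1 : ∀ a : A, (twistBy χ n a : ℂ) * conj (θ' a : ℂ) =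
        (Units.coeHom ℂ).comp (twistBy χ n * θ'⁻¹) a := fun a => by
      simp [CfsgLib.Char.conj_eq_inv_hom]
    have h2 : ∑ a : A, (twistBy χ n a : ℂ) * conj (θ' a : ℂ) =
        if twistBy χ n = θ' then (Nat.card A : ℂ) else 0 := by
      rw [Finset.sum_congr rfl fun a _ => h1 a]
      split_ifs with hEq
      · rw [hEq]
        refine (Finset.sum_eq_card_nsmul (b := (1 : ℂ)) fun a _ => by simp).trans ?_
        simp [Nat.card_eq_fintype_card]
      · refine sum_hom_units_eq_zero _ fun e' => hEq (MonoidHom.ext fun a => Units.ext ?_)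
        have e1 := DFunLike.congr_fun e' a
        simp only [MonoidHom.comp_apply, MonoidHom.mul_apply, MonoidHom.inv_apply, Units.coeHom_apply,
          MonoidHom.one_apply, Units.val_mul, Units.val_inv_eq_inv_val] at e1
        exact (mul_inv_eq_one₀ (Units.ne_zero _)).1 e1
    rw [← h2, ← Finset.add_sum_erase _ _ (Finset.mem_univ (1 : A))]
    simp [S]
  have h1 := hT θ
  rw [Finset.sum_congr rfl fun a ha => by
    rw [e a (mem_sharp.2 ⟨a.2, fun e' => (Finset.mem_erase.1 ha).1 (Subtype.ext e')⟩)], hT θ'] at h1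
  simp only [Finset.sum_sub_distrib, hno, if_false, Finset.sum_const_zero] at h1
  have h2 := mul_left_cancel₀ (inv_ne_zero hk) h1
  rw [sub_left_inj, Finset.sum_ite, Finset.sum_const, Finset.sum_const_zero, add_zero,
    nsmul_eq_mul, mul_eq_zero, or_iff_left hk, Nat.cast_eq_zero, Finset.card_eq_zero] at h2
  have hone : (1 : N) ∈ Finset.univ.filter fun n : N => twistBy θ' n = θ' := by
    refine Finset.mem_filter.2 ⟨Finset.mem_univ _, MonoidHom.ext fun a => ?_⟩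
    simp [twistBy]
  rw [h2] at hone
  exact absurd hone (Finset.notMem_empty _)

/-- A lower bound for the size of a family. -/
theorem card_family_le [Fintype G] {η η' : unip h → ℂ} {φ : F → ℂ} {A : Subgroup G}
    (hA : IsTorus A) {e d : ℤ} (he : e ≠ 0) [Fintype (A →* ℂˣ)] [DecidableEq (A →* ℂˣ)]
    [DecidableEq (G → ℂ)] :
    Nat.card A - 1 ≤ torusWeight m (Nat.card A) *
      (((Finset.univ : Finset (A →* ℂˣ)).erase 1).image
        fun θ => famChar h η η' φ A θ e d).card := by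
  classical
  set N := Subgroup.normalizer (A : Set G)
  let : Fintype N := Fintype.ofFinite N
  have hs : ((Finset.univ : Finset (A →* ℂˣ)).erase 1).card = Nat.card A - 1 := by
    rw [Finset.card_erase_of_mem (Finset.mem_univ _), Finset.card_univ, ← Nat.card_eq_fintype_card,
      (finite_torusHom h hA).1]
  rw [← hs]
  refine Finset.card_le_mul_card_image _ _ fun b hb => ?_
  obtain ⟨θ, hθ, rfl⟩ := Finset.mem_image.1 hb
  have hθ1 : θ ≠ 1 := (Finset.mem_erase.1 hθ).1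
  set O := (Finset.univ : Finset N).image fun n => twistBy θ n
  refine le_trans (Finset.card_le_card (t := O) ?_) ?_
  · intro θ' hθ'
    obtain ⟨hθ'1, hE⟩ := Finset.mem_filter.1 hθ'
    obtain ⟨n, hn⟩ := exists_twist_of_eq h hA (θ := θ) (θ' := θ') (Finset.mem_erase.1 hθ'1).1
      fun a ha => by
        have e1 := congrFun hE a
        rw [famChar_torus h A θ' e d hA (mem_sharp.1 ha).1 (mem_sharp.1 ha).2,
          famChar_torus h A θ e d hA (mem_sharp.1 ha).1 (mem_sharp.1 ha).2] at e1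
        exact (mul_left_cancel₀ (Int.cast_ne_zero.2 he) e1).symm
    exact Finset.mem_image.2 ⟨n, Finset.mem_univ _, hn⟩
  · refine Nat.le_of_mul_le_mul_right ?_ (Nat.card_pos (α := A))
    rw [← hA.card_normalizer h, Nat.card_eq_fintype_card (α := N), ← Finset.card_univ,
      Finset.card_eq_sum_card_image (fun n => twistBy θ n) (Finset.univ : Finset N), ← smul_eq_mul,
      ← Finset.sum_const]
    refine Finset.sum_le_sum fun b hb => ?_
    obtain ⟨n₀, -, rfl⟩ := Finset.mem_image.1 hb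
    rw [← Fintype.card_subtype, ← Nat.card_eq_fintype_card]
    refine Nat.card_le_card_of_injective (fun a : A => (⟨n₀ * ⟨a, Subgroup.le_normalizer a.2⟩, ?_⟩ :
      {n : N // twistBy θ n = twistBy θ n₀})) ?_
    · rw [twistBy_eq_iff h hA hθ1]
      simp
    · intro a b hab
      have e1 := mul_left_cancel (congrArg Subtype.val hab)
      have e2 := congrArg Subtype.val e1
      exact Subtype.ext e2

/-- Degree pattern of the irreducible characters. -/
theorem degree_identity :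
    4 + 4 * (Nat.card F ^ 2) ^ 2 +
        (2 * ((Nat.card F - 1 - 1) * (Nat.card F ^ 2 + 1) ^ 2) +
          ((2 ^ (2 * m + 1) + 2 ^ (m + 1) + 1 - 1) *
              ((Nat.card F - 1) * (2 ^ (2 * m + 1) - 2 ^ (m + 1) + 1)) ^ 2 +
            (2 ^ (2 * m + 1) - 2 ^ (m + 1) + 1 - 1) *
              ((Nat.card F - 1) * (2 ^ (2 * m + 1) + 2 ^ (m + 1) + 1)) ^ 2)) +
      8 * ((Nat.card F - 1) * 2 ^ m) ^ 2 = 4 * Nat.card G := by
  rw [card_G h, h.card]
  obtain ⟨j, hj⟩ : ∃ j, 2 ^ m = j + 1 := ⟨2 ^ m - 1, (Nat.sub_add_cancel Nat.one_le_two_pow).symm⟩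
  have e1 : 2 ^ (m + 1) = 2 * (j + 1) := by rw [pow_succ, hj, mul_comm]
  have e2 : 2 ^ (2 * m + 1) = 2 * (j + 1) * (j + 1) := by
    rw [pow_succ, two_mul, pow_add, hj]; ring
  rw [e1, e2, hj]
  have a1 : 2 * (j + 1) * (j + 1) - 1 = 2 * j * j + 4 * j + 1 := by
    rw [show 2 * (j + 1) * (j + 1) = 2 * j * j + 4 * j + 1 + 1 by ring, Nat.add_sub_cancel]
  have a2 : 2 * (j + 1) * (j + 1) - 2 * (j + 1) = 2 * j * j + 2 * j := by
    rw [show 2 * (j + 1) * (j + 1) = 2 * j * j + 2 * j + 2 * (j + 1) by ring, Nat.add_sub_cancel]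
  rw [a1, a2, Nat.add_sub_cancel, Nat.add_sub_cancel, Nat.add_sub_cancel]
  ring

theorem degrees_distinct :
    let q := Nat.card F
    let k₁ := 2 ^ (2 * m + 1) + 2 ^ (m + 1) + 1
    let k₂ := 2 ^ (2 * m + 1) - 2 ^ (m + 1) + 1
    1 ≠ q ^ 2 ∧ 1 ≠ q ^ 2 + 1 ∧ 1 ≠ (q - 1) * k₂ ∧ 1 ≠ (q - 1) * k₁ ∧ 1 ≠ (q - 1) * 2 ^ m ∧
    q ^ 2 ≠ q ^ 2 + 1 ∧ q ^ 2 ≠ (q - 1) * k₂ ∧ q ^ 2 ≠ (q - 1) * k₁ ∧ q ^ 2 ≠ (q - 1) * 2 ^ m ∧
    q ^ 2 + 1 ≠ (q - 1) * k₂ ∧ q ^ 2 + 1 ≠ (q - 1) * k₁ ∧ q ^ 2 + 1 ≠ (q - 1) * 2 ^ m ∧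
    (q - 1) * k₂ ≠ (q - 1) * k₁ ∧ (q - 1) * k₂ ≠ (q - 1) * 2 ^ m ∧
      (q - 1) * k₁ ≠ (q - 1) * 2 ^ m := by
  intro q k₁ k₂
  obtain ⟨t, ht⟩ : ∃ t, t = 2 ^ m := ⟨_, rfl⟩
  have h2 : 2 ≤ t := by rw [ht]; simpa using Nat.pow_le_pow_right (by norm_num : 0 < 2) h.pos
  have e1 : 2 ^ (m + 1) = 2 * t := by rw [ht, pow_succ, mul_comm]
  have e2 : 2 ^ (2 * m + 1) = 2 * (t * t) := by rw [ht, pow_succ, two_mul, pow_add]; ring
  have hq : q = 2 * (t * t) := by simp only [q]; rw [h.card, e2]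
  have hk1 : k₁ = 2 * (t * t) + 2 * t + 1 := by simp only [k₁, e1, e2]
  have hk2 : k₂ = 2 * (t * t) - 2 * t + 1 := by simp only [k₂, e1, e2]
  have htt : 2 * t ≤ t * t := Nat.mul_le_mul_right t h2
  have hq4 : 4 ≤ q := by omega
  have hsq : (q - 1) * (q + 1) + 1 = q ^ 2 := by
    obtain ⟨j, hj⟩ : ∃ j, q = j + 1 := ⟨q - 1, by omega⟩
    rw [hj, Nat.add_sub_cancel]; ring
  have hmod : ∀ k, (q - 1) * k ≠ q ^ 2 ∧ (q - 1) * k ≠ q ^ 2 + 1 ∧ (q - 1) * k ≠ 1 := by
    intro k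
    refine ⟨fun e => ?_, fun e => ?_, fun e => ?_⟩ <;>
    · have hd : q - 1 ∣ (q - 1) * k := dvd_mul_right _ _
      rw [e] at hd
      first
        | (rw [← hsq] at hd
           first
            | (rw [Nat.dvd_add_right (dvd_mul_right _ _)] at hd
               have := Nat.le_of_dvd Nat.one_pos hd
               omega)
            | (rw [add_assoc, Nat.dvd_add_right (dvd_mul_right _ _)] at hd
               have := Nat.le_of_dvd (by norm_num) hd
               omega))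
        | (have := Nat.le_of_dvd Nat.one_pos hd
           omega)
  have hq2 : 2 ≤ q ^ 2 := le_trans (by omega : 2 ≤ q) (Nat.le_self_pow (by norm_num) q)
  have hne : ∀ a b, a ≠ b → (q - 1) * a ≠ (q - 1) * b := fun a b hab e =>
    hab (Nat.eq_of_mul_eq_mul_left (by omega) e)
  rw [← ht]
  exact ⟨by omega, by omega, (hmod _).2.2.symm, (hmod _).2.2.symm, (hmod _).2.2.symm, by omega,
    (hmod _).1.symm, (hmod _).1.symm, (hmod _).1.symm, (hmod _).2.1.symm, (hmod _).2.1.symm,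
    (hmod _).2.1.symm, hne _ _ (by omega), hne _ _ (by omega), hne _ _ (by omega)⟩

variable {φ : F → ℂ} {η η' : unip h → ℂ} {ρ : F}

/-- Every irreducible character is in the list. -/
theorem irr_cases (E : EtaData h φ η η' ρ) [Fintype G] {χ : G → ℂ}
    (hχ : Cfsg.IsIrrCharacter G χ) :
    χ = (fun _ => 1) ∨ χ = stChar h η η' φ ∨
      (∃ θ, θ ≠ 1 ∧ χ = famChar h η η' φ (torusRep h (split_mem h)) θ 1 (-(2 ^ m : ℤ))) ∨
      (∃ θ, θ ≠ 1 ∧ χ = famChar h η η' φ (torusRep h (plus_mem h)) θ (-1) ((2 ^ m : ℤ) - 1)) ∨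
      (∃ θ, θ ≠ 1 ∧ χ = famChar h η η' φ (torusRep h (minus_mem h)) θ (-1) ((2 ^ m : ℤ) + 1)) ∨
      χ = wChar h η ∨ χ = wChar h η' := by
  classical
  have := h.finite
  let : Fintype F := Fintype.ofFinite F
  obtain ⟨hA0, k0⟩ := torusRep_spec h (split_mem h)
  obtain ⟨hA1, k1⟩ := torusRep_spec h (plus_mem h)
  obtain ⟨hA2, k2⟩ := torusRep_spec h (minus_mem h)
  obtain ⟨w0, w1, w2⟩ := torusWeight_values h
  obtain ⟨c0, c1, c2⟩ := cast_torusOrders h
  have := (finite_torusHom h hA0).2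
  have := (finite_torusHom h hA1).2
  have := (finite_torusHom h hA2).2
  let : Fintype (torusRep h (split_mem h) →* ℂˣ) := Fintype.ofFinite _
  let : Fintype (torusRep h (plus_mem h) →* ℂˣ) := Fintype.ofFinite _
  let : Fintype (torusRep h (minus_mem h) →* ℂˣ) := Fintype.ofFinite _
  let P := ((Finset.univ : Finset (torusRep h (split_mem h) →* ℂˣ)).erase 1).image
    fun θ => famChar h η η' φ (torusRep h (split_mem h)) θ 1 (-(2 ^ m : ℤ))
  let X := ((Finset.univ : Finset (torusRep h (plus_mem h) →* ℂˣ)).erase 1).image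
    fun θ => famChar h η η' φ (torusRep h (plus_mem h)) θ (-1) ((2 ^ m : ℤ) - 1)
  let Y := ((Finset.univ : Finset (torusRep h (minus_mem h) →* ℂˣ)).erase 1).image
    fun θ => famChar h η η' φ (torusRep h (minus_mem h)) θ (-1) ((2 ^ m : ℤ) + 1)
  let W : Finset (G → ℂ) := {wChar h η, wChar h η'}
  have cq1 : ((Nat.card F - 1 : ℕ) : ℂ) = (Nat.card F : ℂ) - 1 := by
    rw [Nat.cast_sub (one_le_q h), Nat.cast_one]
  have dP : ∀ f ∈ P, Cfsg.IsIrrCharacter G f ∧ f 1 = ((Nat.card F ^ 2 + 1 : ℕ) : ℂ) := by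
    intro f hf
    obtain ⟨θ, hθ, rfl⟩ := Finset.mem_image.1 hf
    refine ⟨(famChar_isIrr h E hA0 (Finset.mem_erase.1 hθ).1).1 k0, ?_⟩
    rw [(famChar_degree h E θ).1 k0]; push_cast; rfl
  have dX : ∀ f ∈ X, Cfsg.IsIrrCharacter G f ∧
      f 1 = (((Nat.card F - 1) * (2 ^ (2 * m + 1) - 2 ^ (m + 1) + 1) : ℕ) : ℂ) := by
    intro f hf
    obtain ⟨θ, hθ, rfl⟩ := Finset.mem_image.1 hf
    refine ⟨(famChar_isIrr h E hA1 (Finset.mem_erase.1 hθ).1).2.1 k1, ?_⟩
    rw [(famChar_degree h E θ).2.1 k1, Nat.cast_mul, cq1, c2]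
  have dY : ∀ f ∈ Y, Cfsg.IsIrrCharacter G f ∧
      f 1 = (((Nat.card F - 1) * (2 ^ (2 * m + 1) + 2 ^ (m + 1) + 1) : ℕ) : ℂ) := by
    intro f hf
    obtain ⟨θ, hθ, rfl⟩ := Finset.mem_image.1 hf
    refine ⟨(famChar_isIrr h E hA2 (Finset.mem_erase.1 hθ).1).2.2 k2, ?_⟩
    rw [(famChar_degree h E θ).2.2 k2, Nat.cast_mul, cq1, c1]
  have dW : ∀ f ∈ W, Cfsg.IsIrrCharacter G f ∧
      f 1 = (((Nat.card F - 1) * 2 ^ m : ℕ) : ℂ) := by
    intro f hf
    simp only [W, Finset.mem_insert, Finset.mem_singleton] at hf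
    rcases hf with rfl | rfl
    · refine ⟨wChar_isIrr h E, ?_⟩
      rw [(wChar_values h E).1, Nat.cast_mul, cq1]; push_cast; rfl
    · refine ⟨wChar_isIrr h E.swap, ?_⟩
      rw [(wChar_values h E.swap).1, Nat.cast_mul, cq1]; push_cast; rfl
  have d1 : ∀ f ∈ ({fun _ => (1 : ℂ)} : Finset (G → ℂ)),
      Cfsg.IsIrrCharacter G f ∧ f 1 = ((1 : ℕ) : ℂ) := by
    intro f hf; rw [Finset.mem_singleton] at hf; subst hf
    exact ⟨CfsgLib.Char.isIrrCharacter_one, Nat.cast_one.symm⟩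
  have dS : ∀ f ∈ ({stChar h η η' φ} : Finset (G → ℂ)),
      Cfsg.IsIrrCharacter G f ∧ f 1 = ((Nat.card F ^ 2 : ℕ) : ℂ) := by
    intro f hf; rw [Finset.mem_singleton] at hf; subst hf
    exact ⟨stChar_isIrr h E, by rw [(stChar_values h E).1]; push_cast; rfl⟩
  let Tot : Finset (G → ℂ) :=
    {fun _ => (1 : ℂ)} ∪ ({stChar h η η' φ} ∪ (P ∪ (X ∪ (Y ∪ W))))
  suffices hall : χ ∈ Tot by
    simp only [Tot, P, X, Y, W, Finset.mem_union, Finset.mem_singleton, Finset.mem_image,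
      Finset.mem_erase, Finset.mem_univ, and_true, Finset.mem_insert] at hall
    rcases hall with hh | hh | ⟨θ, hθ, hh⟩ | ⟨θ, hθ, hh⟩ | ⟨θ, hθ, hh⟩ | hh | hh
    · exact Or.inl hh
    · exact Or.inr (Or.inl hh)
    · exact Or.inr (Or.inr (Or.inl ⟨θ, hθ, hh.symm⟩))
    · exact Or.inr (Or.inr (Or.inr (Or.inl ⟨θ, hθ, hh.symm⟩)))
    · exact Or.inr (Or.inr (Or.inr (Or.inr (Or.inl ⟨θ, hθ, hh.symm⟩))))
    · exact Or.inr (Or.inr (Or.inr (Or.inr (Or.inr (Or.inl hh)))))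
    · exact Or.inr (Or.inr (Or.inr (Or.inr (Or.inr (Or.inr hh)))))
  by_contra hno
  have hdg : ∀ f, Cfsg.IsIrrCharacter G f → ∃ n : ℕ, 0 < n ∧ f 1 = (n : ℂ) := fun f hf =>
    CfsgLib.Char.IsIrrCharacter.exists_degree hf
  choose! dg hdg0 hdg1 using hdg
  have hdeq : ∀ {s : Finset (G → ℂ)} {D : ℕ},
      (∀ f ∈ s, Cfsg.IsIrrCharacter G f ∧ f 1 = (D : ℂ)) → ∀ f ∈ s, dg f = D := by
    intro s D hs f hf
    have e := hdg1 f (hs f hf).1
    rw [(hs f hf).2, Nat.cast_inj] at e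
    exact e.symm
  have hsum : ∀ {s : Finset (G → ℂ)} {D : ℕ},
      (∀ f ∈ s, Cfsg.IsIrrCharacter G f ∧ f 1 = (D : ℂ)) → ∑ f ∈ s, dg f ^ 2 = s.card * D ^ 2 := by
    intro s D hs
    rw [Finset.sum_congr rfl fun f hf => by rw [hdeq hs f hf], Finset.sum_const, smul_eq_mul]
  have hTot : Tot ⊆ CfsgLib.Char.irrFinset G := by
    intro f hf
    rw [CfsgLib.Char.mem_irrFinset]
    simp only [Tot, Finset.mem_union] at hf
    rcases hf with hf | hf | hf | hf | hf | hf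
    · exact (d1 f hf).1
    · exact (dS f hf).1
    · exact (dP f hf).1
    · exact (dX f hf).1
    · exact (dY f hf).1
    · exact (dW f hf).1
  have hirrsum : ∑ f ∈ CfsgLib.Char.irrFinset G, dg f ^ 2 = Nat.card G := by
    have e : ∑ f ∈ CfsgLib.Char.irrFinset (SzG F m), f 1 ^ 2 = ((Nat.card (SzG F m) : ℕ) : ℂ) :=
      CfsgLib.Char.sum_degree_sq
    rw [Finset.sum_congr rfl (fun f hf => by rw [hdg1 f (CfsgLib.Char.mem_irrFinset.1 hf)])] at e
    exact_mod_cast e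
  have hlt : ∑ f ∈ Tot, dg f ^ 2 < Nat.card G := by
    rw [← hirrsum]
    exact Finset.sum_lt_sum_of_subset hTot (CfsgLib.Char.mem_irrFinset.2 hχ) hno
      (pow_pos (hdg0 χ hχ) 2) (fun _ _ _ => Nat.zero_le _)
  have dd := degrees_distinct h
  obtain ⟨n1, n2, n3, n4, n5, n6, n7, n8, n9, n10, n11, n12, n13, n14, n15⟩ := dd
  have hdisj : ∀ {s t : Finset (G → ℂ)} {D E : ℕ},
      (∀ f ∈ s, Cfsg.IsIrrCharacter G f ∧ f 1 = (D : ℂ)) →
      (∀ f ∈ t, Cfsg.IsIrrCharacter G f ∧ f 1 = (E : ℂ)) → D ≠ E → Disjoint s t := by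
    intro s t D E hs ht hne
    rw [Finset.disjoint_left]
    intro f hf hf'
    exact hne ((hdeq hs f hf).symm.trans (hdeq ht f hf'))
  have hW2 : W.card = 2 := Finset.card_pair (wChar_ne h E)
  simp only [Tot] at hlt
  rw [Finset.sum_union (Finset.disjoint_union_right.2 ⟨hdisj d1 dS n1, Finset.disjoint_union_right.2
      ⟨hdisj d1 dP n2, Finset.disjoint_union_right.2 ⟨hdisj d1 dX n3, Finset.disjoint_union_right.2
        ⟨hdisj d1 dY n4, hdisj d1 dW n5⟩⟩⟩⟩),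
    Finset.sum_union (Finset.disjoint_union_right.2 ⟨hdisj dS dP n6, Finset.disjoint_union_right.2
      ⟨hdisj dS dX n7, Finset.disjoint_union_right.2 ⟨hdisj dS dY n8, hdisj dS dW n9⟩⟩⟩),
    Finset.sum_union (Finset.disjoint_union_right.2 ⟨hdisj dP dX n10, Finset.disjoint_union_right.2
      ⟨hdisj dP dY n11, hdisj dP dW n12⟩⟩),
    Finset.sum_union (Finset.disjoint_union_right.2 ⟨hdisj dX dY n13, hdisj dX dW n14⟩),
    Finset.sum_union (hdisj dY dW n15), hsum d1, hsum dS, hsum dP, hsum dX, hsum dY, hsum dW,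
    Finset.card_singleton, Finset.card_singleton, hW2] at hlt
  have b0 : Nat.card F - 1 - 1 ≤ 2 * P.card := by
    have := card_family_le h (η := η) (η' := η') (φ := φ) hA0 (e := 1) (d := -(2 ^ m : ℤ)) one_ne_zero
    rw [k0, w0] at this
    refine le_trans (le_of_eq ?_) this
    rw [h.card]
  have b1 : 2 ^ (2 * m + 1) + 2 ^ (m + 1) + 1 - 1 ≤ 4 * X.card := by
    have := card_family_le h (η := η) (η' := η') (φ := φ) hA1 (e := -1) (d := (2 ^ m : ℤ) - 1)
      (by norm_num)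
    rwa [k1, w1] at this
  have b2 : 2 ^ (2 * m + 1) - 2 ^ (m + 1) + 1 - 1 ≤ 4 * Y.card := by
    have := card_family_le h (η := η) (η' := η') (φ := φ) hA2 (e := -1) (d := (2 ^ m : ℤ) + 1)
      (by norm_num)
    rwa [k2, w2] at this
  have hid := degree_identity h
  have i0 := Nat.mul_le_mul_right ((Nat.card F ^ 2 + 1) ^ 2) b0
  have i1 := Nat.mul_le_mul_right
    (((Nat.card F - 1) * (2 ^ (2 * m + 1) - 2 ^ (m + 1) + 1)) ^ 2) b1
  have i2 := Nat.mul_le_mul_right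
    (((Nat.card F - 1) * (2 ^ (2 * m + 1) + 2 ^ (m + 1) + 1)) ^ 2) b2
  nlinarith [hlt, hid, i0, i1, i2]

end CfsgLib.Suzuki
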