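/-
Suzuki group: the square of a class of elements of order above two covers the nontrivial elements.
-/
import Cfsg.Agent.Suzuki.Chars.Complete
import Cfsg.Agent.Char.ClassProducts
import Cfsg.Agent.Char.Values

set_option autoImplicit false

set_option maxHeartbeats 800000

namespace CfsgLib.Suzuki

open scoped ComplexConjugate

variable {F : Type*} [Field F] {m : ℕ}

local notation "G" => SzG F m

variable (h : IsSzField F m)
include h

/-- Every nontrivial element is an involution, an element of order four or lies in a torus. -/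
theorem element_cases {g : G} (hg : g ≠ 1) :
    (∃ (c : G) (b : F), b ≠ 0 ∧ c * g * c⁻¹ = uE h 0 b) ∨
      (∃ (c : G) (a b : F), a ≠ 0 ∧ c * g * c⁻¹ = uE h a b) ∨
      ∃ A : Subgroup G, IsTorus A ∧ g ∈ A := by
  rcases centralizer_cases h hg with ⟨c, hc, -⟩ | hT
  · obtain ⟨a, b, e⟩ := exists_uE h hc
    by_cases ha : a = 0
    · subst ha
      exact Or.inl ⟨c, b, fun hb => hg (conj_eq_one_iff.1 (by rw [e, hb, uE_zero h])), e⟩
    · exact Or.inr (Or.inl ⟨c, a, b, ha, e⟩)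
  · exact Or.inr (Or.inr ⟨_, hT, Subgroup.mem_centralizer_singleton_iff.2 rfl⟩)

/-- Elements of tori are real. -/
theorem IsTorus.isConj_inv {A : Subgroup G} (hA : IsTorus A) {x : G} (hx : x ∈ A) :
    IsConj x x⁻¹ := by
  obtain ⟨t, htN, htA, hto⟩ := hA.exists_orderOf_outside h
  rw [isConj_iff]
  by_cases h2 : orderOf t = 2
  · refine ⟨t, hA.invert h htN htA ?_ hx⟩
    rw [← sq, ← h2]; exact pow_orderOf_eq_one t
  · have h4 : orderOf t = 4 := by
      rw [hto, torusWeight] at h2 ⊢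
      split_ifs at h2 ⊢ <;> omega
    have h22 : orderOf (t ^ 2) = 2 := by
      rw [orderOf_pow' _ two_ne_zero, h4]; norm_num
    refine ⟨t ^ 2, hA.invert h ((Subgroup.normalizer (A : Set G)).pow_mem htN 2)
      (hA.not_mem_of_two_dvd h (by rw [h22])) ?_ hx⟩
    have e := pow_orderOf_eq_one (t ^ 2)
    rw [h22, sq (t ^ 2)] at e
    exact e

/-- Involutions form one class. -/
theorem isConj_uE_center {b b' : F} (hb : b ≠ 0) (hb' : b' ≠ 0) :
    IsConj (uE h 0 b) (uE h 0 b' : G) := by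
  obtain ⟨t, ht⟩ := (lam_units_bijective h).2 (Units.mk0 (b' / b) (div_ne_zero hb' hb))
  have e : lam m t = b' / b := congrArg Units.val ht
  refine isConj_iff.2 ⟨dE h t, ?_⟩
  rw [dE_conj, mul_zero]
  congr 1
  show lam m t * b = b'
  rw [e, div_mul_cancel₀ _ hb]

theorem centralizer_conj_card (c x : G) :
    Nat.card (Subgroup.centralizer ({c * x * c⁻¹} : Set G)) =
      Nat.card (Subgroup.centralizer ({x} : Set G)) := by
  rw [← map_centralizer_singleton]
  exact Subgroup.card_map_of_injective (MulAut.conj c).injective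

theorem card_centralizer_four {a : F} (ha : a ≠ 0) (b : F) :
    Nat.card (Subgroup.centralizer ({uE h a b} : Set G)) = 2 * Nat.card F := by
  classical
  have := h.finite
  have hne : uE h a b ≠ 1 := fun e => ha ((uE_eq_one h).1 e).1
  have key : ∀ c d : F, uE h c d ∈ Subgroup.centralizer ({uE h a b} : Set G) ↔ c = 0 ∨ c = a := by
    intro c d
    rw [Subgroup.mem_centralizer_singleton_iff, ← mul_inv_eq_iff_eq_mul, uE_conj]
    constructor
    · intro e
      have e2 := (uE_inj h e).2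
      by_cases hc : c = 0
      · exact Or.inl hc
      refine Or.inr ?_
      have e3 : sg m c * a = sg m a * c := by
        linear_combination e2 - (sg m a * c) * h.two_eq_zero
      have e4 : sg m (c / a) = c / a := by
        rw [div_eq_mul_inv, sg_mul, sg_inv, ← div_eq_mul_inv, ← div_eq_mul_inv,
          div_eq_div_iff (sg_ne_zero ha) ha]
        linear_combination e3
      have e5 := h.sg_sg (c / a)
      rw [e4, e4, sq] at e5
      have e6 : c / a = 1 := (mul_eq_left₀ (div_ne_zero hc ha)).1 e5.symm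
      exact (div_eq_one_iff_eq ha).1 e6
    · intro hc
      congr 1
      rcases hc with rfl | rfl
      · rw [sg_zero]; ring
      · linear_combination (sg m c * c) * h.two_eq_zero
  let f : {c : F // c = 0 ∨ c = a} × F → Subgroup.centralizer ({uE h a b} : Set G) :=
    fun p => ⟨uE h p.1.1 p.2, (key _ _).2 p.1.2⟩
  have hf : Function.Bijective f := by
    refine ⟨?_, ?_⟩
    · rintro ⟨⟨c, hc⟩, d⟩ ⟨⟨c', hc'⟩, d'⟩ e
      obtain ⟨e1, e2⟩ := uE_inj h (congrArg Subtype.val e)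
      simp only at e1 e2
      subst e1 e2
      rfl
    · rintro ⟨g, hg⟩
      obtain ⟨c, d, rfl⟩ := exists_uE h (centralizer_le_unip h (uE_mem h a b) hne hg)
      exact ⟨⟨⟨c, (key _ _).1 hg⟩, d⟩, rfl⟩
  rw [← Nat.card_eq_of_bijective f hf, Nat.card_prod]
  congr 1
  have : {c : F // c = 0 ∨ c = a} = ({0, a} : Set F) := rfl
  show Nat.card ({0, a} : Set F) = 2
  rw [Nat.card_coe_set_eq, Set.ncard_pair (fun e => ha e.symm)]

/-- An orbit sum is bounded by the weight of its torus. -/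
theorem norm_indFun_torus_le [Fintype G] {A B : Subgroup G} (hA : IsTorus A) (hB : IsTorus B)
    (e : Nat.card B = Nat.card A) (θ : A →* ℂˣ) {g : G} (hg : g ∈ B) (hg1 : g ≠ 1) :
    ‖Cfsg.indFun A (fun x => (θ x : ℂ)) g‖ ≤ (torusWeight m (Nat.card A) : ℝ) := by
  classical
  obtain ⟨c, hc⟩ := hB.exists_conj h hA e
  have hmem : c * g * c⁻¹ ∈ A := by rw [← hc]; exact ⟨g, hg, rfl⟩
  rw [← CfsgLib.Char.isClassFunction_indFun A _ g c,
    indFun_torus_apply h hA _ hmem (fun e => hg1 (conj_eq_one_iff.1 e))]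
  set N := Subgroup.normalizer (A : Set G)
  let : Fintype N := Fintype.ofFinite N
  have hN : (Nat.card N : ℝ) = (torusWeight m (Nat.card A) : ℝ) * Nat.card A := by
    rw [← Nat.cast_mul]; exact_mod_cast hA.card_normalizer h
  rw [Finset.sum_congr rfl fun n _ => extendByZero_twist θ n ⟨c * g * c⁻¹, hmem⟩, norm_mul,
    norm_inv, Complex.norm_natCast]
  refine le_trans (mul_le_mul_of_nonneg_left (norm_sum_le _ _) (by positivity)) ?_
  simp only [CfsgLib.Char.norm_hom_eq_one, Finset.sum_const, Finset.card_univ, nsmul_eq_mul,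
    mul_one, ← Nat.card_eq_fintype_card, hN]
  have hk : (Nat.card A : ℝ) ≠ 0 := Nat.cast_ne_zero.2 Nat.card_pos.ne'
  apply le_of_eq
  rw [show (Nat.card (Subgroup.normalizer (A : Set G)) : ℝ) =
    (torusWeight m (Nat.card A) : ℝ) * Nat.card A from hN]
  field_simp

variable {φ : F → ℂ} {η η' : unip h → ℂ} {ρ : F}

/-- The four exceptional characters. -/
noncomputable def specialChars [Fintype G] (η η' : unip h → ℂ) (φ : F → ℂ) :
    Finset (G → ℂ) := by
  classical exact {fun _ => 1, stChar h η η' φ, wChar h η, wChar h η'}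

/-- The data of a non-exceptional irreducible character. -/
def IsFamily [Fintype G] (χ : G → ℂ) (D k w : ℕ) (vz e : ℤ) : Prop :=
  χ 1 = (D : ℂ) ∧ (∀ b : F, b ≠ 0 → χ (uE h 0 b) = (vz : ℂ)) ∧
    (∀ a b : F, a ≠ 0 → χ (uE h a b) = (e : ℂ)) ∧
    ∀ B : Subgroup G, IsTorus B → ∀ g ∈ B, g ≠ 1 →
      (Nat.card B ≠ k → χ g = 0) ∧ ‖χ g‖ ≤ (w : ℝ)

/-- The non-exceptional irreducible characters. -/
theorem family_cases (E : EtaData h φ η η' ρ) [Fintype G] {χ : G → ℂ}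
    (hχ : Cfsg.IsIrrCharacter G χ) (hns : χ ∉ specialChars h η η' φ) :
    IsFamily h χ (Nat.card F ^ 2 + 1) (2 ^ (2 * m + 1) - 1) 2 1 1 ∨
      IsFamily h χ ((Nat.card F - 1) * (2 ^ (2 * m + 1) - 2 ^ (m + 1) + 1))
        (2 ^ (2 * m + 1) + 2 ^ (m + 1) + 1) 4 (2 * 2 ^ m - 1) (-1) ∨
      IsFamily h χ ((Nat.card F - 1) * (2 ^ (2 * m + 1) + 2 ^ (m + 1) + 1))
        (2 ^ (2 * m + 1) - 2 ^ (m + 1) + 1) 4 (-(2 * 2 ^ m + 1)) (-1) := by
  classical
  have := h.finite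
  let : Fintype F := Fintype.ofFinite F
  obtain ⟨c0, c1, c2⟩ := cast_torusOrders h
  obtain ⟨w0, w1, w2⟩ := torusWeight_values h
  have cq : (Nat.card F : ℂ) = 2 * (2 ^ m) ^ 2 := cast_q h
  have cq1 : ((Nat.card F - 1 : ℕ) : ℂ) = (Nat.card F : ℂ) - 1 := by
    rw [Nat.cast_sub (one_le_q h), Nat.cast_one]
  simp only [specialChars, Finset.mem_insert, Finset.mem_singleton, not_or] at hns
  obtain ⟨n1, n2, n3, n4⟩ := hns
  have mk : ∀ {k : ℕ} (hk : k ∈ torusOrders m) (θ : torusRep h hk →* ℂˣ) (e d : ℤ),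
      ∀ B : Subgroup G, IsTorus B → ∀ g ∈ B, g ≠ 1 → (e = 1 ∨ e = -1) →
        (Nat.card B ≠ k → famChar h η η' φ (torusRep h hk) θ e d g = 0) ∧
          ‖famChar h η η' φ (torusRep h hk) θ e d g‖ ≤ (torusWeight m k : ℝ) := by
    intro k hk θ e d B hB g hg hg1 he
    obtain ⟨hA, hAk⟩ := torusRep_spec h hk
    have hz : Nat.card B ≠ k → famChar h η η' φ (torusRep h hk) θ e d g = 0 := fun hne =>
      famChar_torus_other h _ θ e d hA hB hg hg1 (by rw [hAk]; exact hne)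
    refine ⟨hz, ?_⟩
    by_cases hBk : Nat.card B = k
    · rw [famChar_torus h _ θ e d hB hg hg1, norm_mul,
        show ‖(e : ℂ)‖ = 1 by rcases he with rfl | rfl <;> simp, one_mul]
      refine (norm_indFun_torus_le h hA hB (hBk.trans hAk.symm) θ hg hg1).trans (le_of_eq ?_)
      rw [hAk]
    · rw [hz hBk, norm_zero]; positivity
  rcases irr_cases h E hχ with hh | hh | ⟨θ, -, hh⟩ | ⟨θ, -, hh⟩ | ⟨θ, -, hh⟩ | hh | hh
  · exact absurd hh n1
  · exact absurd hh n2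
  · obtain ⟨hA, hAk⟩ := torusRep_spec h (split_mem h)
    subst hh
    refine Or.inl ⟨?_, fun b hb => ?_, fun a b ha => ?_, fun B hB g hg hg1 => ?_⟩
    · rw [(famChar_degree h E θ).1 hAk]; push_cast; rfl
    · rw [famChar_center h _ θ _ _ E hA hb, cq]; push_cast; ring
    · rw [famChar_four h _ θ _ _ E hA ha]
    · have := mk (split_mem h) θ 1 (-(2 ^ m : ℤ)) B hB g hg hg1 (Or.inl rfl)
      rwa [w0] at this
  · obtain ⟨hA, hAk⟩ := torusRep_spec h (plus_mem h)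
    subst hh
    refine Or.inr (Or.inl ⟨?_, fun b hb => ?_, fun a b ha => ?_, fun B hB g hg hg1 => ?_⟩)
    · rw [(famChar_degree h E θ).2.1 hAk, Nat.cast_mul, cq1, c2]
    · rw [famChar_center h _ θ _ _ E hA hb, cq]; push_cast; ring
    · rw [famChar_four h _ θ _ _ E hA ha]
    · have := mk (plus_mem h) θ (-1) ((2 ^ m : ℤ) - 1) B hB g hg hg1 (Or.inr rfl)
      rwa [w1] at this
  · obtain ⟨hA, hAk⟩ := torusRep_spec h (minus_mem h)
    subst hh
    refine Or.inr (Or.inr ⟨?_, fun b hb => ?_, fun a b ha => ?_, fun B hB g hg hg1 => ?_⟩)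
    · rw [(famChar_degree h E θ).2.2 hAk, Nat.cast_mul, cq1, c1]
    · rw [famChar_center h _ θ _ _ E hA hb, cq]; push_cast; ring
    · rw [famChar_four h _ θ _ _ E hA ha]
    · have := mk (minus_mem h) θ (-1) ((2 ^ m : ℤ) + 1) B hB g hg hg1 (Or.inr rfl)
      rwa [w2] at this
  · exact absurd hh n3
  · exact absurd hh n4

open scoped Classical in
/-- Splitting off the exceptional characters. -/
theorem sum_irr_split (E : EtaData h φ η η' ρ) [Fintype G]
    {M : Type*} [AddCommMonoid M] (f : (G → ℂ) → M) :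
    ∑ χ ∈ CfsgLib.Char.irrFinset G, f χ =
      f (fun _ => 1) + f (stChar h η η' φ) + f (wChar h η) + f (wChar h η') +
        ∑ χ ∈ CfsgLib.Char.irrFinset G \ specialChars h η η' φ, f χ := by
  classical
  have := h.finite
  let : Fintype F := Fintype.ofFinite F
  have h8 : 8 ≤ Nat.card F := by
    rw [h.card]
    exact Nat.pow_le_pow_right (by norm_num : 0 < 2) (show 3 ≤ 2 * m + 1 by have := h.pos; omega)
  have hd : (Nat.card F : ℂ) ^ 2 = ((Nat.card F ^ 2 : ℕ) : ℂ) := by push_cast; rfl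
  have hw : ∀ {γ : unip h → ℂ} {γ' : unip h → ℂ}, EtaData h φ γ γ' ρ →
      wChar h γ 1 = (((Nat.card F - 1) * 2 ^ m : ℕ) : ℂ) := fun E' => by
    rw [(wChar_values h E').1, Nat.cast_mul, Nat.cast_sub (one_le_q h)]; push_cast; rfl
  obtain ⟨-, -, -, -, n5, -, -, -, n9, -⟩ := degrees_distinct h
  have hq2 : 1 ≠ Nat.card F ^ 2 := (degrees_distinct h).1
  have hsub : specialChars h η η' φ ⊆ CfsgLib.Char.irrFinset G := by
    intro χ hχ
    simp only [specialChars, Finset.mem_insert, Finset.mem_singleton] at hχ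
    rw [CfsgLib.Char.mem_irrFinset]
    rcases hχ with rfl | rfl | rfl | rfl
    · exact CfsgLib.Char.isIrrCharacter_one
    · exact stChar_isIrr h E
    · exact wChar_isIrr h E
    · exact wChar_isIrr h E.swap
  have e1 : (fun _ => 1 : G → ℂ) ∉ ({stChar h η η' φ, wChar h η, wChar h η'} : Finset (G → ℂ)) := by
    simp only [Finset.mem_insert, Finset.mem_singleton, not_or]
    refine ⟨fun e => hq2 ?_, fun e => n5 ?_, fun e => n5 ?_⟩
    · have e' : (1 : ℂ) = stChar h η η' φ 1 := congrFun e 1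
      rw [(stChar_values h E).1, hd] at e'
      exact_mod_cast e'
    · have e' : (1 : ℂ) = wChar h η 1 := congrFun e 1
      rw [hw E] at e'
      exact_mod_cast e'
    · have e' : (1 : ℂ) = wChar h η' 1 := congrFun e 1
      rw [hw E.swap] at e'
      exact_mod_cast e'
  have e2 : stChar h η η' φ ∉ ({wChar h η, wChar h η'} : Finset (G → ℂ)) := by
    simp only [Finset.mem_insert, Finset.mem_singleton, not_or]
    refine ⟨fun e => n9 ?_, fun e => n9 ?_⟩
    · have e' := congrFun e 1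
      rw [(stChar_values h E).1, hd, hw E] at e'
      exact_mod_cast e'
    · have e' := congrFun e 1
      rw [(stChar_values h E).1, hd, hw E.swap] at e'
      exact_mod_cast e'
  rw [← Finset.sum_sdiff hsub, add_comm]
  congr 1
  simp only [specialChars]
  rw [Finset.sum_insert e1, Finset.sum_insert e2, Finset.sum_pair (wChar_ne h E)]
  abel

open scoped Classical in
/-- The squared norms in a column, outside the exceptional characters. -/
theorem sum_family_normSq (E : EtaData h φ η η' ρ) [Fintype G] (x : G) :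
    ∑ χ ∈ CfsgLib.Char.irrFinset G \ specialChars h η η' φ, Complex.normSq (χ x) =
      (Nat.card (Subgroup.centralizer ({x} : Set G)) : ℝ) - 1 -
        Complex.normSq (stChar h η η' φ x) - Complex.normSq (wChar h η x) -
          Complex.normSq (wChar h η' x) := by
  classical
  have e : ∑ χ ∈ CfsgLib.Char.irrFinset (SzG F m), χ x * conj (χ x) =
      if IsConj x x then (Nat.card (Subgroup.centralizer ({x} : Set (SzG F m))) : ℂ) else 0 :=
    CfsgLib.Char.sum_irr_mul_conj x x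
  rw [if_pos (IsConj.refl x)] at e
  simp only [Complex.mul_conj] at e
  rw [← Complex.ofReal_sum] at e
  have e' : ∑ χ ∈ CfsgLib.Char.irrFinset (SzG F m), Complex.normSq (χ x) =
      (Nat.card (Subgroup.centralizer ({x} : Set G)) : ℝ) := by exact_mod_cast e
  rw [sum_irr_split h E] at e'
  simp only [map_one] at e'
  linarith

/-- Elements of the class square of `x` are detected by a character sum. -/
theorem exists_product [Fintype G] {a b c : G}
    (hne : ∑ χ ∈ CfsgLib.Char.irrFinset G, χ a * χ b * conj (χ c) / χ 1 ≠ 0) :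
    ∃ u v : G, (u * a * u⁻¹) * (v * b * v⁻¹) = c := by
  classical
  have e := CfsgLib.Char.card_class_products a b c
  have hpos : Nat.card {p : G × G // IsConj a p.1 ∧ IsConj b p.2 ∧ p.1 * p.2 = c} ≠ 0 := by
    intro e0
    rw [e0, Nat.cast_zero, eq_comm, mul_eq_zero] at e
    refine e.elim ?_ hne
    rw [div_eq_zero_iff, mul_eq_zero, Nat.cast_eq_zero, Nat.cast_eq_zero, Nat.cast_eq_zero]
    have ha : Nat.card {x : G // IsConj a x} ≠ 0 :=
      (Nat.card_pos_iff.2 ⟨⟨⟨a, IsConj.refl a⟩⟩, inferInstance⟩).ne'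
    have hb : Nat.card {x : G // IsConj b x} ≠ 0 :=
      (Nat.card_pos_iff.2 ⟨⟨⟨b, IsConj.refl b⟩⟩, inferInstance⟩).ne'
    rintro ((e1 | e2) | e3)
    exacts [(ha e1).elim, (hb e2).elim, (Nat.card_pos.ne' e3).elim]
  obtain ⟨⟨⟨p1, p2⟩, h1, h2, h3⟩⟩ := (Nat.card_ne_zero.1 hpos).1
  obtain ⟨u, hu⟩ := isConj_iff.1 h1
  obtain ⟨v, hv⟩ := isConj_iff.1 h2
  exact ⟨u, v, by rw [hu, hv]; exact h3⟩

/-- A character sum is nonzero when the trivial term dominates. -/
theorem sum_ne_zero_of_bound (E : EtaData h φ η η' ρ) [Fintype G] (f : (G → ℂ) → ℂ)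
    (b : (G → ℂ) → ℝ) (h1 : f (fun _ => 1) = 1)
    (hb : ∀ χ, Cfsg.IsIrrCharacter G χ → χ ∉ specialChars h η η' φ → -(b χ) ≤ (f χ).re) {B : ℝ}
    (hB : ∀ s : Finset (G → ℂ), (∀ χ, χ ∈ s ↔ Cfsg.IsIrrCharacter G χ ∧ χ ∉ specialChars h η η' φ) →
      ∑ χ ∈ s, b χ ≤ B)
    (hpos : 0 < 1 + (f (stChar h η η' φ)).re + (f (wChar h η)).re + (f (wChar h η')).re - B) :
    ∑ χ ∈ CfsgLib.Char.irrFinset G, f χ ≠ 0 := by
  classical
  intro e
  have e' := congrArg Complex.re e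
  rw [sum_irr_split h E, Complex.add_re, Complex.add_re, Complex.add_re, Complex.add_re, h1,
    Complex.one_re, Complex.re_sum, Complex.zero_re] at e'
  have hmem : ∀ χ, χ ∈ CfsgLib.Char.irrFinset G \ specialChars h η η' φ ↔
      Cfsg.IsIrrCharacter G χ ∧ χ ∉ specialChars h η η' φ := fun χ => by
    rw [Finset.mem_sdiff, CfsgLib.Char.mem_irrFinset]
  have h2 : ∑ χ ∈ CfsgLib.Char.irrFinset G \ specialChars h η η' φ, -(b χ) ≤
      ∑ χ ∈ CfsgLib.Char.irrFinset G \ specialChars h η η' φ, (f χ).re :=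
    Finset.sum_le_sum fun χ hχ => hb χ ((hmem χ).1 hχ).1 ((hmem χ).1 hχ).2
  rw [Finset.sum_neg_distrib] at h2
  have h3 := hB _ hmem
  linarith

omit h in
/-- The real part of a term with a real middle factor. -/
theorem re_term [Fintype G] (χ : G → ℂ) {D : ℕ} (hD : χ 1 = (D : ℂ)) (g x : G) :
    (χ g * χ x * conj (χ x) / χ 1).re = (χ g).re * Complex.normSq (χ x) / (D : ℝ) := by
  rw [hD, mul_assoc, Complex.mul_conj, Complex.div_natCast_re, Complex.re_mul_ofReal]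

omit h in
/-- A norm bound for the real part of a term. -/
theorem neg_le_re_term [Fintype G] (χ : G → ℂ) {D : ℕ} (hD : χ 1 = (D : ℂ)) (g x : G) :
    -(Complex.normSq (χ x) * ‖χ g‖ / (D : ℝ)) ≤ (χ x * χ x * conj (χ g) / χ 1).re := by
  refine neg_le_of_abs_le ((Complex.abs_re_le_norm _).trans (le_of_eq ?_))
  rw [hD, norm_div, norm_mul, norm_mul, Complex.norm_conj, Complex.norm_natCast,
    Complex.normSq_eq_norm_sq, sq]

omit h in
theorem exists_real_param (h : IsSzField F m) : ∃ t : ℝ, 2 ≤ t ∧ t = 2 ^ m ∧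
    (Nat.card F : ℝ) = 2 * t ^ 2 ∧ ((Nat.card F - 1 : ℕ) : ℝ) = 2 * t ^ 2 - 1 ∧
    ((2 ^ (2 * m + 1) - 1 : ℕ) : ℝ) = 2 * t ^ 2 - 1 ∧
    ((2 ^ (2 * m + 1) + 2 ^ (m + 1) + 1 : ℕ) : ℝ) = 2 * t ^ 2 + 2 * t + 1 ∧
    ((2 ^ (2 * m + 1) - 2 ^ (m + 1) + 1 : ℕ) : ℝ) = 2 * t ^ 2 - 2 * t + 1 := by
  have h1 : 2 ^ (m + 1) ≤ 2 ^ (2 * m + 1) := Nat.pow_le_pow_right (by norm_num) (by omega)
  have e1 : (2 : ℝ) ^ (2 * m + 1) = 2 * ((2 : ℝ) ^ m) ^ 2 := by
    rw [pow_succ, mul_comm, ← pow_mul, mul_comm m 2]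
  have hF : (Nat.card F : ℝ) = 2 * ((2 : ℝ) ^ m) ^ 2 := by rw [h.card]; push_cast; exact e1
  refine ⟨2 ^ m, ?_, rfl, hF, ?_, ?_, ?_, ?_⟩
  · calc (2 : ℝ) = 2 ^ 1 := (pow_one 2).symm
      _ ≤ 2 ^ m := pow_le_pow_right₀ one_le_two h.pos
  · rw [Nat.cast_sub (one_le_q h), hF, Nat.cast_one]
  · rw [Nat.cast_sub Nat.one_le_two_pow]; push_cast; rw [e1]
  · push_cast; rw [pow_succ (2 : ℝ) m, e1]; ring
  · rw [Nat.cast_add, Nat.cast_sub h1]; push_cast; rw [pow_succ (2 : ℝ) m, e1]; ring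

/-- The special characters at a torus element. -/
theorem special_torus (E : EtaData h φ η η' ρ) [Fintype G] {B : Subgroup G} (hB : IsTorus B)
    {x : G} (hx : x ∈ B) (hx1 : x ≠ 1) :
    (Nat.card B = 2 ^ (2 * m + 1) - 1 ∧ stChar h η η' φ x = 1 ∧ wChar h η x = 0 ∧
        wChar h η' x = 0) ∨
    (Nat.card B = 2 ^ (2 * m + 1) + 2 ^ (m + 1) + 1 ∧ stChar h η η' φ x = -1 ∧ wChar h η x = 1 ∧
        wChar h η' x = 1) ∨
    (Nat.card B = 2 ^ (2 * m + 1) - 2 ^ (m + 1) + 1 ∧ stChar h η η' φ x = -1 ∧ wChar h η x = -1 ∧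
        wChar h η' x = -1) := by
  classical
  have := h.finite
  let : Fintype F := Fintype.ofFinite F
  obtain ⟨-, -, -, hS⟩ := stChar_values h E
  obtain ⟨-, -, -, hW⟩ := wChar_values h E
  obtain ⟨-, -, -, hW'⟩ := wChar_values h E.swap
  obtain ⟨d12, d13, d23⟩ := torusOrders_distinct h
  rw [hS hB x hx hx1, hW hB x hx hx1, hW' hB x hx hx1]
  rcases hB.2 with e | e | (e : Nat.card B = _)
  · exact Or.inl ⟨e, by rw [if_pos e], by rw [if_neg (e ▸ d12), if_neg (e ▸ d13)]; norm_num,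
      by rw [if_neg (e ▸ d12), if_neg (e ▸ d13)]; norm_num⟩
  · exact Or.inr (Or.inl ⟨e, by rw [if_neg (e ▸ d12.symm)],
      by rw [if_pos e, if_neg (e ▸ d23)]; norm_num, by rw [if_pos e, if_neg (e ▸ d23)]; norm_num⟩)
  · exact Or.inr (Or.inr ⟨e, by rw [if_neg (e ▸ d13.symm)],
      by rw [if_pos e, if_neg (e ▸ d23.symm)]; norm_num,
      by rw [if_pos e, if_neg (e ▸ d23.symm)]; norm_num⟩)

theorem sum_torus_column (E : EtaData h φ η η' ρ) [Fintype G] {B : Subgroup G} (hB : IsTorus B)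
    {x : G} (hx : x ∈ B) (hx1 : x ≠ 1) {s : Finset (G → ℂ)}
    (hs : ∀ χ, χ ∈ s ↔ Cfsg.IsIrrCharacter G χ ∧ χ ∉ specialChars h η η' φ) :
    ∑ χ ∈ s, Complex.normSq (χ x) =
      (Nat.card B : ℝ) - 1 - Complex.normSq (stChar h η η' φ x) -
        Complex.normSq (wChar h η x) - Complex.normSq (wChar h η' x) := by
  classical
  have e : s = CfsgLib.Char.irrFinset G \ specialChars h η η' φ := by
    ext χ; rw [hs, Finset.mem_sdiff, CfsgLib.Char.mem_irrFinset]
  rw [e, sum_family_normSq h E x, hB.eq_centralizer h hx hx1]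

theorem sum_four_column (E : EtaData h φ η η' ρ) [Fintype G] [Fintype F] [DecidableEq F]
    {a b : F} (ha : a ≠ 0) {s : Finset (G → ℂ)}
    (hs : ∀ χ, χ ∈ s ↔ Cfsg.IsIrrCharacter G χ ∧ χ ∉ specialChars h η η' φ) :
    ∑ χ ∈ s, Complex.normSq (χ (uE h a b)) = (Nat.card F : ℝ) - 1 := by
  classical
  obtain ⟨t, -, ht, hq, -⟩ := exists_real_param h
  have e : s = CfsgLib.Char.irrFinset G \ specialChars h η η' φ := by
    ext χ; rw [hs, Finset.mem_sdiff, CfsgLib.Char.mem_irrFinset]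
  have hn : ∀ {γ γ' : unip h → ℂ}, EtaData h φ γ γ' ρ →
      Complex.normSq (wChar h γ (uE h a b)) = t ^ 2 := fun E' => by
    have e1 := (E'.indU_four h ha (b := b)).2
    rw [← (wChar_values h E').2.2.1 a b ha, Complex.mul_conj] at e1
    rw [ht, ← pow_mul, mul_comm m 2]
    exact_mod_cast e1
  rw [e, sum_family_normSq h E, card_centralizer_four h ha, (stChar_values h E).2.2.1 a b ha,
    map_zero, hn E, hn E.swap, Nat.cast_mul, Nat.cast_two, hq]
  ring

omit h in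
theorem plus_bound (t : ℝ) (ht : t = 2 ∨ 4 ≤ t) :
    4 / ((2 * t ^ 2 - 1) * (2 * t ^ 2 - 2 * t + 1)) * (2 * t ^ 2 + 2 * t + 1 - 2 - 2 * 1) <
      1 - 1 / 64 + 2 / ((2 * t ^ 2 - 1) * t) := by
  rcases ht with rfl | ht
  · norm_num
  · have hd : 0 < (2 * t ^ 2 - 1) * (2 * t ^ 2 - 2 * t + 1) :=
      mul_pos (by nlinarith) (by nlinarith)
    have h1 : 4 / ((2 * t ^ 2 - 1) * (2 * t ^ 2 - 2 * t + 1)) *
        (2 * t ^ 2 + 2 * t + 1 - 2 - 2 * 1) ≤ 12 / 31 := by
      rw [div_mul_eq_mul_div, div_le_div_iff₀ hd (by norm_num)]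
      have h2 : 31 * t ^ 2 ≤ (2 * t ^ 2 - 1) * (2 * t ^ 2 - 2 * t + 1) :=
        mul_le_mul (by nlinarith) (by nlinarith) (by positivity) (by nlinarith)
      nlinarith
    have h3 : 0 ≤ 2 / ((2 * t ^ 2 - 1) * t) := div_nonneg (by norm_num) (mul_nonneg (by nlinarith) (by linarith))
    linarith

omit h in
theorem minus_bound (t : ℝ) (ht : 2 ≤ t) :
    4 / ((2 * t ^ 2 - 1) * (2 * t ^ 2 + 2 * t + 1)) * (2 * t ^ 2 - 2 * t + 1 - 2 - 2 * 1) ≤ 1 / 2 := by
  have ha : 7 ≤ 2 * t ^ 2 - 1 := by nlinarith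
  have hb : (2 * t ^ 2 - 2 * t + 1) ≤ (2 * t ^ 2 + 2 * t + 1) := by linarith
  have hd : 0 < (2 * t ^ 2 - 1) * (2 * t ^ 2 + 2 * t + 1) := mul_pos (by linarith) (by nlinarith)
  have hc : (2 * t ^ 2 - 1) * 13 ≤ (2 * t ^ 2 - 1) * (2 * t ^ 2 + 2 * t + 1) :=
    mul_le_mul_of_nonneg_left (by nlinarith) (by linarith)
  rw [div_mul_eq_mul_div, div_le_iff₀ hd]
  linarith

omit h in
theorem split_bound (t : ℝ) (ht : 2 ≤ t) :
    2 / ((2 * t ^ 2) ^ 2 + 1) * (2 * t ^ 2 - 1 - 2) ≤ 1 / 2 := by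
  rw [div_mul_eq_mul_div, div_le_iff₀ (by positivity)]
  nlinarith [mul_nonneg (show (0 : ℝ) ≤ 2 * t ^ 2 - 4 by nlinarith) (show (0 : ℝ) ≤ 2 * t ^ 2 by positivity)]

/-- Products of two conjugates of a torus element, at the three kinds of target. -/
theorem torus_sum_ne_zero (E : EtaData h φ η η' ρ) [Fintype G] {B : Subgroup G} (hB : IsTorus B)
    {x : G} (hx : x ∈ B) (hx1 : x ≠ 1) {g : G}
    (hg : (∃ b, b ≠ 0 ∧ g = uE h 0 b) ∨ (∃ a b, a ≠ 0 ∧ g = uE h a b) ∨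
      ∃ C : Subgroup G, IsTorus C ∧ g ∈ C ∧ g ≠ 1) :
    ∑ χ ∈ CfsgLib.Char.irrFinset G, χ g * χ x * conj (χ x) / χ 1 ≠ 0 := by
  classical
  have := h.finite
  let : Fintype F := Fintype.ofFinite F
  obtain ⟨t, ht2, ht, hq, hq1, hk0, hk1, hk2⟩ := exists_real_param h
  have hA : (7 : ℝ) ≤ 2 * t ^ 2 - 1 := by nlinarith
  have hK2 : (5 : ℝ) ≤ 2 * t ^ 2 - 2 * t + 1 := by nlinarith
  have hK1 : (13 : ℝ) ≤ 2 * t ^ 2 + 2 * t + 1 := by nlinarith
  have htpos : (0 : ℝ) < t := by linarith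
  obtain ⟨hS1, hSz, hSf, -⟩ := stChar_values h E
  obtain ⟨hW1, hWz, hWf, -⟩ := wChar_values h E
  obtain ⟨hW1', hWz', hWf', -⟩ := wChar_values h E.swap
  have hD0 : stChar h η η' φ 1 = ((Nat.card F ^ 2 : ℕ) : ℂ) := by rw [hS1]; push_cast; rfl
  have cq1 : ((Nat.card F - 1 : ℕ) : ℂ) = (Nat.card F : ℂ) - 1 := by
    rw [Nat.cast_sub (one_le_q h), Nat.cast_one]
  have hDW : wChar h η 1 = (((Nat.card F - 1) * 2 ^ m : ℕ) : ℂ) := by
    rw [hW1, Nat.cast_mul, cq1]; push_cast; rfl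
  have hDW' : wChar h η' 1 = (((Nat.card F - 1) * 2 ^ m : ℕ) : ℂ) := by
    rw [hW1', Nat.cast_mul, cq1]; push_cast; rfl
  have rD0 : ((Nat.card F ^ 2 : ℕ) : ℝ) = (2 * t ^ 2) ^ 2 := by rw [Nat.cast_pow, hq]
  have rDP : ((Nat.card F ^ 2 + 1 : ℕ) : ℝ) = (2 * t ^ 2) ^ 2 + 1 := by
    rw [Nat.cast_add, Nat.cast_pow, hq, Nat.cast_one]
  have rDW : (((Nat.card F - 1) * 2 ^ m : ℕ) : ℝ) = (2 * t ^ 2 - 1) * t := by
    rw [Nat.cast_mul, hq1, ht]; push_cast; rfl
  have rDX : (((Nat.card F - 1) * (2 ^ (2 * m + 1) - 2 ^ (m + 1) + 1) : ℕ) : ℝ) =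
      (2 * t ^ 2 - 1) * (2 * t ^ 2 - 2 * t + 1) := by rw [Nat.cast_mul, hq1, hk2]
  have rDY : (((Nat.card F - 1) * (2 ^ (2 * m + 1) + 2 ^ (m + 1) + 1) : ℕ) : ℝ) =
      (2 * t ^ 2 - 1) * (2 * t ^ 2 + 2 * t + 1) := by rw [Nat.cast_mul, hq1, hk1]
  have hDle : (2 * t ^ 2 - 1) * (2 * t ^ 2 - 2 * t + 1) ≤ (2 * t ^ 2) ^ 2 + 1 := by nlinarith
  have hDle' : (2 * t ^ 2 - 1) * (2 * t ^ 2 - 2 * t + 1) ≤
      (2 * t ^ 2 - 1) * (2 * t ^ 2 + 2 * t + 1) := by nlinarith
  obtain ⟨kB, δ, hkB, hS, hW, hW', hk, hδ⟩ :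
      ∃ (kB δ : ℝ), (Nat.card B : ℝ) = kB ∧ Complex.normSq (stChar h η η' φ x) = 1 ∧
        Complex.normSq (wChar h η x) = δ ∧ Complex.normSq (wChar h η' x) = δ ∧
          kB ≤ 2 * t ^ 2 + 2 * t + 1 ∧ (δ = 0 ∨ δ = 1) := by
    rcases special_torus h E hB hx hx1 with ⟨e, a, b, c⟩ | ⟨e, a, b, c⟩ | ⟨e, a, b, c⟩
    · exact ⟨_, 0, by rw [e, hk0], by simp [a], by simp [b], by simp [c], by nlinarith, Or.inl rfl⟩
    · exact ⟨_, 1, by rw [e, hk1], by simp [a], by simp [b], by simp [c], le_refl _, Or.inr rfl⟩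
    · exact ⟨_, 1, by rw [e, hk2], by simp [a], by simp [b], by simp [c], by nlinarith, Or.inr rfl⟩
  have hsum : ∀ s : Finset (G → ℂ),
      (∀ χ, χ ∈ s ↔ Cfsg.IsIrrCharacter G χ ∧ χ ∉ specialChars h η η' φ) →
      ∑ χ ∈ s, Complex.normSq (χ x) = kB - 2 - 2 * δ := fun s hs => by
    rw [sum_torus_column h E hB hx hx1 hs, hkB, hS, hW, hW']; ring
  -- reduce to a lower bound for the normalised values at `g`
  have main : ∀ c : ℝ,
      (∀ χ (D k w : ℕ) (vz e : ℤ), IsFamily h χ D k w vz e →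
        ((D = Nat.card F ^ 2 + 1 ∧ k = 2 ^ (2 * m + 1) - 1 ∧ w = 2 ∧ vz = 1 ∧ e = 1) ∨
          (D = (Nat.card F - 1) * (2 ^ (2 * m + 1) - 2 ^ (m + 1) + 1) ∧
            k = 2 ^ (2 * m + 1) + 2 ^ (m + 1) + 1 ∧ w = 4 ∧ vz = 2 * 2 ^ m - 1 ∧ e = -1) ∨
          (D = (Nat.card F - 1) * (2 ^ (2 * m + 1) + 2 ^ (m + 1) + 1) ∧
            k = 2 ^ (2 * m + 1) - 2 ^ (m + 1) + 1 ∧ w = 4 ∧ vz = -(2 * 2 ^ m + 1) ∧ e = -1)) →
        Nat.card B = k → -c ≤ (χ g).re / (D : ℝ)) →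
      0 < 1 + (stChar h η η' φ g).re / (2 * t ^ 2) ^ 2 +
          δ * ((wChar h η g).re + (wChar h η' g).re) / ((2 * t ^ 2 - 1) * t) -
            c * (kB - 2 - 2 * δ) →
      ∑ χ ∈ CfsgLib.Char.irrFinset G, χ g * χ x * conj (χ x) / χ 1 ≠ 0 := by
    intro c hc hpos
    refine sum_ne_zero_of_bound h E (fun χ => χ g * χ x * conj (χ x) / χ 1)
      (fun χ => c * Complex.normSq (χ x)) (by simp) (fun χ hχ hns => ?_)
      (B := c * (kB - 2 - 2 * δ)) (fun s hs => by rw [← Finset.mul_sum, hsum s hs]) ?_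
    · have key : ∀ {D k w : ℕ} {vz e : ℤ}, IsFamily h χ D k w vz e →
          (Nat.card B = k → -c ≤ (χ g).re / (D : ℝ)) →
          -(c * Complex.normSq (χ x)) ≤ (χ g * χ x * conj (χ x) / χ 1).re := by
        intro D k w vz e hf hbd
        rw [re_term χ hf.1, mul_div_right_comm]
        by_cases hk' : Nat.card B = k
        · nlinarith [hbd hk', Complex.normSq_nonneg (χ x)]
        · simp [((hf.2.2.2 B hB x hx hx1).1 hk')]
      rcases family_cases h E hχ hns with hf | hf | hf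
      · exact key hf (hc χ _ _ _ _ _ hf (Or.inl ⟨rfl, rfl, rfl, rfl, rfl⟩))
      · exact key hf (hc χ _ _ _ _ _ hf (Or.inr (Or.inl ⟨rfl, rfl, rfl, rfl, rfl⟩)))
      · exact key hf (hc χ _ _ _ _ _ hf (Or.inr (Or.inr ⟨rfl, rfl, rfl, rfl, rfl⟩)))
    · rw [re_term _ hD0, re_term _ hDW, re_term _ hDW', hS, hW, hW', rD0, rDW, mul_one]
      have e : δ * ((wChar h η g).re + (wChar h η' g).re) / ((2 * t ^ 2 - 1) * t) =
          (wChar h η g).re * δ / ((2 * t ^ 2 - 1) * t) +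
            (wChar h η' g).re * δ / ((2 * t ^ 2 - 1) * t) := by ring
      linarith
  have hkB2 : kB - 2 - 2 * δ ≤ 2 * t ^ 2 + 2 * t := by rcases hδ with e | e <;> linarith
  rcases hg with ⟨b, hb, rfl⟩ | ⟨a, b, ha, rfl⟩ | ⟨C, hC, hgC, hg1⟩
  · refine main ((2 * t + 1) / ((2 * t ^ 2 - 1) * (2 * t ^ 2 + 2 * t + 1)))
      (fun χ D k w vz e hf hcase _ => ?_) ?_
    · rw [hf.2.1 b hb, Complex.intCast_re]
      have hc0 : 0 ≤ (2 * t + 1) / ((2 * t ^ 2 - 1) * (2 * t ^ 2 + 2 * t + 1)) :=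
        div_nonneg (by linarith) (mul_nonneg (by linarith) (by linarith))
      rcases hcase with ⟨rfl, -, -, rfl, -⟩ | ⟨rfl, -, -, rfl, -⟩ | ⟨rfl, -, -, rfl, -⟩
      · refine le_trans (neg_nonpos.2 hc0) ?_
        rw [Int.cast_one]; positivity
      · refine le_trans (neg_nonpos.2 hc0) (div_nonneg ?_ (Nat.cast_nonneg _))
        push_cast; rw [← ht]; linarith
      · rw [rDY]; push_cast; rw [← ht, neg_div]
    · rw [hSz b hb, hWz b hb, hWz' b hb, Complex.zero_re, zero_div, Complex.neg_re,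
        show ((2 : ℂ) ^ m).re = t by
          rw [ht, show (2 : ℂ) ^ m = (((2 : ℝ) ^ m : ℝ) : ℂ) by push_cast; rfl, Complex.ofReal_re]]
      have e1 : (δ * (-t + -t)) / ((2 * t ^ 2 - 1) * t) = -(2 * δ) / (2 * t ^ 2 - 1) := by
        rw [eq_comm, div_eq_div_iff (by linarith) (mul_ne_zero (by linarith) htpos.ne')]; ring
      rw [e1, neg_div]
      have hden : 0 < (2 * t ^ 2 - 1) * (2 * t ^ 2 + 2 * t + 1) := by nlinarith
      have goal : 2 * δ * (2 * t ^ 2 + 2 * t + 1) + (2 * t + 1) * (kB - 2 - 2 * δ) <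
          (2 * t ^ 2 - 1) * (2 * t ^ 2 + 2 * t + 1) := by
        rcases hδ with e | e <;> subst e <;> nlinarith
      have e2 : 2 * δ / (2 * t ^ 2 - 1) + (2 * t + 1) /
          ((2 * t ^ 2 - 1) * (2 * t ^ 2 + 2 * t + 1)) * (kB - 2 - 2 * δ) =
          (2 * δ * (2 * t ^ 2 + 2 * t + 1) + (2 * t + 1) * (kB - 2 - 2 * δ)) /
            ((2 * t ^ 2 - 1) * (2 * t ^ 2 + 2 * t + 1)) := by
        field_simp
      have e3 := (div_lt_one hden).2 goal
      linarith
  · refine main (1 / ((2 * t ^ 2 - 1) * (2 * t ^ 2 - 2 * t + 1)))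
      (fun χ D k w vz e hf hcase _ => ?_) ?_
    · rw [hf.2.2.1 a b ha, Complex.intCast_re]
      have hden : 0 < (2 * t ^ 2 - 1) * (2 * t ^ 2 - 2 * t + 1) := by nlinarith
      rcases hcase with ⟨rfl, -, -, -, rfl⟩ | ⟨rfl, -, -, -, rfl⟩ | ⟨rfl, -, -, -, rfl⟩
      · refine le_trans (neg_nonpos.2 (by positivity)) ?_
        rw [Int.cast_one]; positivity
      · rw [rDX]; push_cast; rw [neg_div]
      · rw [rDY]; push_cast; rw [neg_div, neg_le_neg_iff]
        exact one_div_le_one_div_of_le hden hDle'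
    · rw [hSf a b ha, hWf a b ha, hWf' a b ha, (E.indU_four h ha (b := b)).1, Complex.zero_re,
        zero_div, Complex.neg_re, add_neg_cancel, mul_zero, zero_div, one_div_mul_eq_div]
      have hden : 0 < (2 * t ^ 2 - 1) * (2 * t ^ 2 - 2 * t + 1) := by nlinarith
      have e3 : (kB - 2 - 2 * δ) / ((2 * t ^ 2 - 1) * (2 * t ^ 2 - 2 * t + 1)) < 1 :=
        (div_lt_one hden).2 (by nlinarith)
      linarith
  · have hbound : ∀ χ (D k w : ℕ) (vz e : ℤ), IsFamily h χ D k w vz e →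
        (Nat.card C ≠ k → (χ g).re / (D : ℝ) = 0) ∧ -((w : ℝ) / D) ≤ (χ g).re / (D : ℝ) := by
      intro χ D k w vz e hf
      refine ⟨fun hne => by rw [(hf.2.2.2 C hC g hgC hg1).1 hne]; simp, ?_⟩
      rw [← neg_div]
      exact div_le_div_of_nonneg_right
        (neg_le_of_abs_le ((Complex.abs_re_le_norm _).trans (hf.2.2.2 C hC g hgC hg1).2))
        (Nat.cast_nonneg _)
    obtain ⟨d12, d13, d23⟩ := torusOrders_distinct h
    have hSg : -1 ≤ (stChar h η η' φ g).re := by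
      rcases special_torus h E hC hgC hg1 with ⟨-, a, -, -⟩ | ⟨-, a, -, -⟩ | ⟨-, a, -, -⟩ <;>
        rw [a] <;> norm_num
    have hWg : -2 ≤ (wChar h η g).re + (wChar h η' g).re := by
      rcases special_torus h E hC hgC hg1 with ⟨-, -, a, b⟩ | ⟨-, -, a, b⟩ | ⟨-, -, a, b⟩ <;>
        rw [a, b] <;> norm_num
    have hwp : Nat.card C = 2 ^ (2 * m + 1) + 2 ^ (m + 1) + 1 →
        (wChar h η g).re + (wChar h η' g).re = 2 := by
      intro eC
      rcases special_torus h E hC hgC hg1 with ⟨e, -, a, b⟩ | ⟨e, -, a, b⟩ | ⟨e, -, a, b⟩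
      · exact absurd (e.symm.trans eC) d12
      · rw [a, b]; norm_num
      · exact absurd (eC.symm.trans e) d23
    have hq4 : (8 : ℝ) ≤ 2 * t ^ 2 := by linarith
    have hS' : -(1 / 64) ≤ (stChar h η η' φ g).re / (2 * t ^ 2) ^ 2 := by
      rw [neg_le, ← neg_div]
      refine (div_le_div_of_nonneg_right (neg_le.1 hSg) (by positivity)).trans ?_
      rw [div_le_div_iff₀ (by positivity) (by norm_num)]
      nlinarith
    have hdWt : 0 < (2 * t ^ 2 - 1) * t := by nlinarith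
    have hdWt' : 14 ≤ (2 * t ^ 2 - 1) * t := by nlinarith
    have hW'' : -(1 / 7) ≤ ((wChar h η g).re + (wChar h η' g).re) / ((2 * t ^ 2 - 1) * t) := by
      rw [le_div_iff₀ hdWt]
      nlinarith
    have eqB : ∀ {k : ℕ}, Nat.card B = k → kB = (k : ℝ) := fun e => by rw [← hkB, e]
    rcases special_torus h E hB hx hx1 with ⟨eB, -, bB, -⟩ | ⟨eB, -, bB, -⟩ | ⟨eB, -, bB, -⟩
    · have e0 : δ = 0 := by rw [← hW, bB, map_zero]
      refine main (2 / ((2 * t ^ 2) ^ 2 + 1)) (fun χ D k w vz e hf hcase ek => ?_) ?_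
      · rcases hcase with ⟨rfl, rfl, rfl, -, -⟩ | ⟨-, rfl, -, -, -⟩ | ⟨-, rfl, -, -, -⟩
        · refine le_trans (le_of_eq ?_) (hbound χ _ _ _ _ _ hf).2
          rw [rDP]; norm_num
        · exact absurd (eB.symm.trans ek) d12
        · exact absurd (eB.symm.trans ek) d13
      · rw [eqB eB, hk0, e0, zero_mul, zero_div, add_zero, mul_zero, sub_zero]
        have e1 := split_bound t ht2
        linarith
    · have e1 : δ = 1 := by rw [← hW, bB, map_one]
      by_cases eC : Nat.card C = 2 ^ (2 * m + 1) + 2 ^ (m + 1) + 1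
      · refine main (4 / ((2 * t ^ 2 - 1) * (2 * t ^ 2 - 2 * t + 1)))
          (fun χ D k w vz e hf hcase ek => ?_) ?_
        · rcases hcase with ⟨-, rfl, -, -, -⟩ | ⟨rfl, rfl, rfl, -, -⟩ | ⟨-, rfl, -, -, -⟩
          · exact absurd (ek.symm.trans eB) d12
          · refine le_trans (le_of_eq ?_) (hbound χ _ _ _ _ _ hf).2
            rw [rDX]; norm_num
          · exact absurd (eB.symm.trans ek) d23
        · rw [eqB eB, hk1, e1, hwp eC, one_mul]
          have e2 := plus_bound t (by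
            rcases Nat.lt_or_ge m 2 with hm | hm
            · left; rw [ht, show m = 1 by have := h.pos; omega, pow_one]
            · right; rw [ht]
              calc (4 : ℝ) = 2 ^ 2 := by norm_num
                _ ≤ 2 ^ m := pow_le_pow_right₀ one_le_two hm)
          linarith
      · refine main 0 (fun χ D k w vz e hf hcase ek => ?_) ?_
        · rw [(hbound χ D k w vz e hf).1 (fun e' => eC (e'.trans (ek.symm.trans eB))), neg_zero]
        · rw [e1, one_mul, zero_mul, sub_zero]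
          linarith
    · have e1 : δ = 1 := by rw [← hW, bB, Complex.normSq_neg, map_one]
      refine main (4 / ((2 * t ^ 2 - 1) * (2 * t ^ 2 + 2 * t + 1)))
        (fun χ D k w vz e hf hcase ek => ?_) ?_
      · rcases hcase with ⟨-, rfl, -, -, -⟩ | ⟨-, rfl, -, -, -⟩ | ⟨rfl, rfl, rfl, -, -⟩
        · exact absurd (ek.symm.trans eB) d13
        · exact absurd (ek.symm.trans eB) d23
        · refine le_trans (le_of_eq ?_) (hbound χ _ _ _ _ _ hf).2
          rw [rDY]; norm_num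
      · rw [eqB eB, hk2, e1, one_mul]
        have e2 := minus_bound t ht2
        linarith

omit h in
theorem four_bound (t : ℝ) (ht : 2 ≤ t) :
    2 * t / (2 * t ^ 2 - 1) + (2 * t ^ 2 - 1 + (2 * t ^ 2 + 2 * t - 1)) /
      (2 * ((2 * t ^ 2 - 1) * (2 * t ^ 2 - 2 * t + 1))) < 1 := by
  have ha : 0 < 2 * t ^ 2 - 1 := by nlinarith
  have hb : 5 ≤ 2 * t ^ 2 - 2 * t + 1 := by nlinarith
  have hc : 5 * (2 * t ^ 2 - 1 - 2 * t) ≤ (2 * t ^ 2 - 2 * t + 1) * (2 * t ^ 2 - 1 - 2 * t) :=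
    mul_le_mul_of_nonneg_right hb (by nlinarith)
  rw [div_add_div _ _ ha.ne' (mul_ne_zero two_ne_zero (mul_ne_zero ha.ne' (by linarith))),
    div_lt_one (by positivity)]
  have hd : 0 < (2 * t ^ 2 - 1) * (2 * (2 * t ^ 2 - 2 * t + 1) * (2 * t ^ 2 - 1 - 2 * t) -
      (4 * t ^ 2 + 2 * t - 2)) := mul_pos ha (by nlinarith)
  linarith

/-- Products of two conjugates of an element of order four, at targets that are not involutions. -/
theorem four_sum_ne_zero (E : EtaData h φ η η' ρ) [Fintype G] {a b : F} (ha : a ≠ 0) {g : G}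
    (hg : (∃ a' b', a' ≠ 0 ∧ g = uE h a' b') ∨ ∃ C : Subgroup G, IsTorus C ∧ g ∈ C ∧ g ≠ 1) :
    ∑ χ ∈ CfsgLib.Char.irrFinset G,
      χ (uE h a b) * χ (uE h a b) * conj (χ g) / χ 1 ≠ 0 := by
  classical
  have := h.finite
  let : Fintype F := Fintype.ofFinite F
  obtain ⟨t, ht2, ht, hq, hq1, hk0, hk1, hk2⟩ := exists_real_param h
  obtain ⟨hS1, -, hSf, -⟩ := stChar_values h E
  obtain ⟨hW1, -, hWf, -⟩ := wChar_values h E
  obtain ⟨hW1', -, hWf', -⟩ := wChar_values h E.swap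
  have cq1 : ((Nat.card F - 1 : ℕ) : ℂ) = (Nat.card F : ℂ) - 1 := by
    rw [Nat.cast_sub (one_le_q h), Nat.cast_one]
  have hDW : wChar h η 1 = (((Nat.card F - 1) * 2 ^ m : ℕ) : ℂ) := by
    rw [hW1, Nat.cast_mul, cq1]; push_cast; rfl
  have hDW' : wChar h η' 1 = (((Nat.card F - 1) * 2 ^ m : ℕ) : ℂ) := by
    rw [hW1', Nat.cast_mul, cq1]; push_cast; rfl
  have rDW : (((Nat.card F - 1) * 2 ^ m : ℕ) : ℝ) = (2 * t ^ 2 - 1) * t := by
    rw [Nat.cast_mul, hq1, ht]; push_cast; rfl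
  have hwx : wChar h η' (uE h a b) = -wChar h η (uE h a b) := by
    rw [hWf' a b ha, hWf a b ha, (E.indU_four h ha (b := b)).1]
  have hA : (7 : ℝ) ≤ 2 * t ^ 2 - 1 := by nlinarith
  have hK2 : (5 : ℝ) ≤ 2 * t ^ 2 - 2 * t + 1 := by nlinarith
  have hDm : 0 < (2 * t ^ 2 - 1) * (2 * t ^ 2 - 2 * t + 1) := mul_pos (by linarith) (by linarith)
  have key : ∀ χ, Cfsg.IsIrrCharacter G χ → χ ∉ specialChars h η η' φ →
      Complex.normSq (χ (uE h a b)) = 1 ∧ ∃ D : ℕ, χ 1 = (D : ℂ) ∧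
        (2 * t ^ 2 - 1) * (2 * t ^ 2 - 2 * t + 1) ≤ (D : ℝ) ∧
          ((∃ a' b', a' ≠ 0 ∧ g = uE h a' b') → ‖χ g‖ = 1) := by
    intro χ hχ hns
    rcases family_cases h E hχ hns with hf | hf | hf <;>
      refine ⟨by rw [hf.2.2.1 a b ha]; norm_num, _, hf.1, ?_,
        by rintro ⟨a', b', ha', rfl⟩; rw [hf.2.2.1 a' b' ha']; norm_num⟩
    · rw [Nat.cast_add, Nat.cast_pow, hq, Nat.cast_one]; nlinarith
    · rw [Nat.cast_mul, hq1, hk2]
    · rw [Nat.cast_mul, hq1, hk1]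
      exact mul_le_mul_of_nonneg_left (by linarith) (by linarith)
  have hpre : ∀ (B : ℝ) (bd : (G → ℂ) → ℝ),
      (∀ χ, Cfsg.IsIrrCharacter G χ → χ ∉ specialChars h η η' φ →
        Complex.normSq (χ (uE h a b)) = 1 →
          ‖χ g‖ / ((2 * t ^ 2 - 1) * (2 * t ^ 2 - 2 * t + 1)) ≤ bd χ) →
      (∀ s : Finset (G → ℂ),
        (∀ χ, χ ∈ s ↔ Cfsg.IsIrrCharacter G χ ∧ χ ∉ specialChars h η η' φ) →
          ∑ χ ∈ s, bd χ ≤ B) →
      0 < 1 + (wChar h η (uE h a b) * wChar h η (uE h a b) * conj (wChar h η g) / wChar h η 1).re +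
        (wChar h η (uE h a b) * wChar h η (uE h a b) * conj (wChar h η' g) / wChar h η 1).re - B →
      ∑ χ ∈ CfsgLib.Char.irrFinset G,
        χ (uE h a b) * χ (uE h a b) * conj (χ g) / χ 1 ≠ 0 := by
    intro B bd hbd hB hpos
    refine sum_ne_zero_of_bound h E (fun χ => χ (uE h a b) * χ (uE h a b) * conj (χ g) / χ 1) bd
      (by simp) (fun χ hχ hns => ?_) hB ?_
    · obtain ⟨hn, D, hD, hDle, -⟩ := key χ hχ hns
      refine le_trans (neg_le_neg ?_) (neg_le_re_term χ hD g (uE h a b))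
      rw [hn, one_mul]
      exact (div_le_div_of_nonneg_left (norm_nonneg _) hDm hDle).trans (hbd χ hχ hns hn)
    · rw [hSf a b ha, mul_zero, zero_mul, zero_div, Complex.zero_re, add_zero, hwx, hDW',
        neg_mul_neg, ← hDW]
      exact hpos
  rcases hg with ⟨a', b', ha', rfl⟩ | ⟨C, hC, hgC, hg1⟩
  · refine hpre ((2 * t ^ 2 - 1) / ((2 * t ^ 2 - 1) * (2 * t ^ 2 - 2 * t + 1)))
      (fun χ => Complex.normSq (χ (uE h a b)) / ((2 * t ^ 2 - 1) * (2 * t ^ 2 - 2 * t + 1)))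
      (fun χ hχ hns hn => ?_) (fun s hs => ?_) ?_
    · obtain ⟨-, D, -, -, hn'⟩ := key χ hχ hns
      rw [hn, hn' ⟨a', b', ha', rfl⟩]
    · rw [← Finset.sum_div, sum_four_column h E ha hs, hq]
    · rw [hWf' a' b' ha', hWf a' b' ha', (E.indU_four h ha' (b := b')).1, map_neg, mul_neg, neg_div,
        Complex.neg_re, add_neg_cancel_right, sub_pos, div_lt_one hDm]
      nlinarith
  · refine hpre ((2 * t ^ 2 - 1 + (2 * t ^ 2 + 2 * t - 1)) /
        (2 * ((2 * t ^ 2 - 1) * (2 * t ^ 2 - 2 * t + 1))))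
      (fun χ => (Complex.normSq (χ (uE h a b)) + Complex.normSq (χ g)) /
        (2 * ((2 * t ^ 2 - 1) * (2 * t ^ 2 - 2 * t + 1))))
      (fun χ hχ hns hn => ?_) (fun s hs => ?_) ?_
    · rw [hn, div_le_div_iff₀ hDm (mul_pos two_pos hDm), Complex.normSq_eq_norm_sq]
      nlinarith [mul_nonneg hDm.le (sq_nonneg (‖χ g‖ - 1))]
    · rw [← Finset.sum_div, Finset.sum_add_distrib, sum_four_column h E ha hs,
        sum_torus_column h E hC hgC hg1 hs, hq]
      refine div_le_div_of_nonneg_right ?_ (by positivity)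
      have hkC : (Nat.card C : ℝ) ≤ 2 * t ^ 2 + 2 * t + 1 := by
        rcases hC.2 with e | e | (e : Nat.card C = _) <;> rw [e] <;>
          first | (rw [hk0]; linarith) | (rw [hk1]) | (rw [hk2]; linarith)
      have hS : Complex.normSq (stChar h η η' φ g) = 1 := by
        rcases special_torus h E hC hgC hg1 with ⟨-, e, -, -⟩ | ⟨-, e, -, -⟩ | ⟨-, e, -, -⟩ <;>
          simp [e]
      have h1 := Complex.normSq_nonneg (wChar h η g)
      have h2 := Complex.normSq_nonneg (wChar h η' g)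
      linarith
    · have hw : ∀ γ γ' : unip h → ℂ, EtaData h φ γ γ' ρ → ‖wChar h γ g‖ ≤ 1 := by
        intro γ γ' E'
        rcases special_torus h E' hC hgC hg1 with ⟨-, -, e, -⟩ | ⟨-, -, e, -⟩ | ⟨-, -, e, -⟩ <;>
          simp [e]
      have hn : Complex.normSq (wChar h η (uE h a b)) = t ^ 2 := by
        have e1 := (E.indU_four h ha (b := b)).2
        rw [← hWf a b ha, Complex.mul_conj] at e1
        rw [ht, ← pow_mul, mul_comm m 2]
        exact_mod_cast e1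
      have hb : ∀ z : ℂ, ‖z‖ ≤ 1 → -(t / (2 * t ^ 2 - 1)) ≤
          (wChar h η (uE h a b) * wChar h η (uE h a b) * conj z / wChar h η 1).re := by
        intro z hz
        refine neg_le_of_abs_le ((Complex.abs_re_le_norm _).trans ?_)
        rw [norm_div, norm_mul, norm_mul, Complex.norm_conj, hDW, Complex.norm_natCast, rDW, ← sq,
          ← Complex.normSq_eq_norm_sq, hn]
        refine (div_le_div_of_nonneg_right (mul_le_of_le_one_right (sq_nonneg t) hz)
          (by nlinarith)).trans (le_of_eq ?_)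
        have h1 : t ≠ 0 := by linarith
        rw [div_eq_div_iff (mul_ne_zero (by linarith) h1) (by linarith)]
        ring
      have e := four_bound t ht2
      have h1 := hb _ (hw η η' E)
      have h2 := hb _ (hw η' η E.swap)
      have e2 : 2 * t / (2 * t ^ 2 - 1) = t / (2 * t ^ 2 - 1) + t / (2 * t ^ 2 - 1) := by ring
      linarith

/-- The square of the class of an element of order above two covers the nontrivial elements. -/
theorem class_square_covers {x : G} (hx2 : 2 < orderOf x) {g : G} (hg : g ≠ 1) :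
    ∃ u v : G, g = u * x * u⁻¹ * (v * x * v⁻¹) := by
  classical
  have := h.finite
  have := finite_G h
  let : Fintype (SzG F m) := Fintype.ofFinite _
  obtain ⟨φ, η, η', ρ, E⟩ := exists_etaData h
  have hx1 : x ≠ 1 := fun e => by rw [e, orderOf_one] at hx2; omega
  -- one may replace `g` by a conjugate
  have gconj : ∀ c : G, (∃ u v : G, c * g * c⁻¹ = u * x * u⁻¹ * (v * x * v⁻¹)) →
      ∃ u v : G, g = u * x * u⁻¹ * (v * x * v⁻¹) := by
    rintro c ⟨u, v, e⟩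
    refine ⟨c⁻¹ * u, c⁻¹ * v, ?_⟩
    calc g = c⁻¹ * (c * g * c⁻¹) * c := by group
      _ = c⁻¹ * (u * x * u⁻¹ * (v * x * v⁻¹)) * c := by rw [e]
      _ = _ := by group
  rcases element_cases h hx1 with ⟨c, b, hb, e⟩ | ⟨c, a, b, ha, e⟩ | ⟨B, hB, hxB⟩
  · exact absurd ((orderOf_uE_two h hb).symm.trans (by rw [← e, orderOf_conj_eq])) (by omega)
  · -- `x` of order four
    have xconj : ∀ g' : G, (∃ u v : G, u * uE h a b * u⁻¹ * (v * uE h a b * v⁻¹) = g') →
        ∃ u v : G, g' = u * x * u⁻¹ * (v * x * v⁻¹) := by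
      rintro g' ⟨u, v, e'⟩
      refine ⟨u * c, v * c, ?_⟩
      rw [← e', ← e]
      group
    rcases element_cases h hg with ⟨d, b', hb', e'⟩ | ⟨d, a', b', ha', e'⟩ | ⟨C, hC, hgC⟩
    · refine gconj d (xconj _ ?_)
      obtain ⟨w, hw⟩ := isConj_iff.1 (isConj_uE_center h (b := sg m a * a)
        (mul_ne_zero (sg_ne_zero ha) ha) hb')
      refine ⟨w, w, ?_⟩
      rw [e', show w * uE h a b * w⁻¹ * (w * uE h a b * w⁻¹) =
        w * (uE h a b * uE h a b) * w⁻¹ by group, uE_sq, hw]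
    · exact gconj d (xconj _ (by
        rw [e']
        exact exists_product h (four_sum_ne_zero h E ha (Or.inl ⟨a', b', ha', rfl⟩))))
    · exact xconj _ (exists_product h (four_sum_ne_zero h E ha (Or.inr ⟨C, hC, hgC, hg⟩)))
  · -- `x` in a torus
    have key : ∀ g' : G, ((∃ b, b ≠ 0 ∧ g' = uE h 0 b) ∨ (∃ a b, a ≠ 0 ∧ g' = uE h a b) ∨
        ∃ C : Subgroup G, IsTorus C ∧ g' ∈ C ∧ g' ≠ 1) →
        ∃ u v : G, g' = u * x * u⁻¹ * (v * x * v⁻¹) := by
      intro g' hg'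
      obtain ⟨u, v, e⟩ := exists_product h (torus_sum_ne_zero h E hB hxB hx1 hg')
      obtain ⟨d, hd⟩ := isConj_iff.1 (hB.isConj_inv h hxB)
      refine ⟨u⁻¹, u⁻¹ * v * d, ?_⟩
      have e1 : g' = u⁻¹ * (x * (v * x * v⁻¹)⁻¹) * u := by
        calc g' = u⁻¹ * (u * g' * u⁻¹ * (v * x * v⁻¹) * (v * x * v⁻¹)⁻¹) * u := by group
          _ = _ := by rw [e]
      rw [e1, show u⁻¹ * v * d * x * (u⁻¹ * v * d)⁻¹ = u⁻¹ * v * (d * x * d⁻¹) * (u⁻¹ * v)⁻¹ by group,
        hd]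
      group
    rcases element_cases h hg with ⟨d, b', hb', e'⟩ | ⟨d, a', b', ha', e'⟩ | ⟨C, hC, hgC⟩
    · exact gconj d (key _ (Or.inl ⟨b', hb', e'⟩))
    · exact gconj d (key _ (Or.inr (Or.inl ⟨a', b', ha', e'⟩)))
    · exact key _ (Or.inr (Or.inr ⟨C, hC, hgC, hg⟩))

end CfsgLib.Suzuki
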