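/-
Suzuki group: the irreducible character degrees.
-/
import Cfsg.Agent.Suzuki.Chars.Complete
import Cfsg.Prelude.Def_DegreeGraph

set_option autoImplicit false

namespace CfsgLib.Suzuki

variable {F : Type*} [Field F] {m : ℕ} (h : IsSzField F m)
include h

theorem exists_torusHom_ne_one {k : ℕ} (hk : k ∈ torusOrders m) (h1 : 1 < k) :
    ∃ θ : torusRep h hk →* ℂˣ, θ ≠ 1 := by
  obtain ⟨hA, e⟩ := torusRep_spec h hk
  obtain ⟨hc, hf⟩ := finite_torusHom h hA
  have : Nontrivial (torusRep h hk →* ℂˣ) :=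
    (Finite.one_lt_card_iff_nontrivial).1 (by rw [hc, e]; exact h1)
  exact exists_ne 1

/-- The degrees of the irreducible characters of the Suzuki group. -/
theorem charDegrees_eq {S : Type*} [Group S] [Finite S] (e : S ≃* SzG F m) :
    Cfsg.charDegrees S =
      {1, Nat.card F ^ 2, Nat.card F ^ 2 + 1,
        (Nat.card F - 1) * (2 ^ (2 * m + 1) - 2 ^ (m + 1) + 1),
        (Nat.card F - 1) * (2 ^ (2 * m + 1) + 2 ^ (m + 1) + 1),
        (Nat.card F - 1) * 2 ^ m} := by
  classical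
  have := h.finite
  let : Fintype F := Fintype.ofFinite F
  have := finite_G h
  let : Fintype (SzG F m) := Fintype.ofFinite _
  obtain ⟨φ, η, η', ρ, E⟩ := exists_etaData h
  obtain ⟨hA0, k0⟩ := torusRep_spec h (split_mem h)
  obtain ⟨hA1, k1⟩ := torusRep_spec h (plus_mem h)
  obtain ⟨hA2, k2⟩ := torusRep_spec h (minus_mem h)
  obtain ⟨c0, c1, c2⟩ := cast_torusOrders h
  have cq1 : ((Nat.card F - 1 : ℕ) : ℂ) = (Nat.card F : ℂ) - 1 := by
    rw [Nat.cast_sub (one_le_q h), Nat.cast_one]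
  have hsurj : Function.Surjective e.toMonoidHom := e.surjective
  have hsurj' : Function.Surjective e.symm.toMonoidHom := e.symm.surjective
  have key : ∀ d : ℕ, d ∈ Cfsg.charDegrees S ↔
      ∃ χ : SzG F m → ℂ, Cfsg.IsIrrCharacter (SzG F m) χ ∧ χ 1 = (d : ℂ) := by
    intro d
    constructor
    · rintro ⟨⟨χ, hχ⟩, rfl⟩
      obtain ⟨n, -, hn⟩ := CfsgLib.Char.IsIrrCharacter.exists_degree hχ
      refine ⟨_, CfsgLib.Char.IsIrrCharacter.comp_surjective hχ e.symm.toMonoidHom hsurj', ?_⟩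
      simp [Cfsg.charDegree, hn]
    · rintro ⟨χ, hχ, hd⟩
      refine ⟨⟨_, CfsgLib.Char.IsIrrCharacter.comp_surjective hχ e.toMonoidHom hsurj⟩, ?_⟩
      simp [Cfsg.charDegree, hd]
  ext d
  simp only [key, Set.mem_insert_iff, Set.mem_singleton_iff]
  constructor
  · rintro ⟨χ, hχ, hd⟩
    rcases irr_cases h E hχ with hh | hh | ⟨θ, -, hh⟩ | ⟨θ, -, hh⟩ | ⟨θ, -, hh⟩ | hh | hh <;> subst hh
    · refine Or.inl ?_
      have hd' : (1 : ℂ) = (d : ℂ) := hd
      exact_mod_cast hd'.symm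
    · rw [(stChar_values h E).1] at hd
      exact Or.inr (Or.inl (by exact_mod_cast hd.symm))
    · rw [(famChar_degree h E θ).1 k0] at hd
      exact Or.inr (Or.inr (Or.inl (by exact_mod_cast hd.symm)))
    · rw [(famChar_degree h E θ).2.1 k1, ← cq1, ← c2] at hd
      exact Or.inr (Or.inr (Or.inr (Or.inl (by exact_mod_cast hd.symm))))
    · rw [(famChar_degree h E θ).2.2 k2, ← cq1, ← c1] at hd
      exact Or.inr (Or.inr (Or.inr (Or.inr (Or.inl (by exact_mod_cast hd.symm)))))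
    · rw [(wChar_values h E).1, ← cq1] at hd
      exact Or.inr (Or.inr (Or.inr (Or.inr (Or.inr (by exact_mod_cast hd.symm)))))
    · rw [(wChar_values h E.swap).1, ← cq1] at hd
      exact Or.inr (Or.inr (Or.inr (Or.inr (Or.inr (by exact_mod_cast hd.symm)))))
  · have h8 : 8 ≤ 2 ^ (2 * m + 1) :=
      Nat.pow_le_pow_right (by norm_num : 0 < 2) (show 3 ≤ 2 * m + 1 by have := h.pos; omega)
    have hr := h.sigma_add_two_lt
    rintro (rfl | rfl | rfl | rfl | rfl | rfl)
    · exact ⟨_, CfsgLib.Char.isIrrCharacter_one, Nat.cast_one.symm⟩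
    · exact ⟨_, stChar_isIrr h E, by rw [(stChar_values h E).1]; push_cast; rfl⟩
    · obtain ⟨θ, hθ⟩ := exists_torusHom_ne_one h (split_mem h) (by omega)
      exact ⟨_, (famChar_isIrr h E hA0 hθ).1 k0, by rw [(famChar_degree h E θ).1 k0]; push_cast; rfl⟩
    · obtain ⟨θ, hθ⟩ := exists_torusHom_ne_one h (plus_mem h) (by have := Nat.one_le_two_pow (n := m + 1); omega)
      exact ⟨_, (famChar_isIrr h E hA1 hθ).2.1 k1,
        by rw [(famChar_degree h E θ).2.1 k1, Nat.cast_mul, cq1, c2]⟩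
    · obtain ⟨θ, hθ⟩ := exists_torusHom_ne_one h (minus_mem h) (by have := h.four_le; omega)
      exact ⟨_, (famChar_isIrr h E hA2 hθ).2.2 k2,
        by rw [(famChar_degree h E θ).2.2 k2, Nat.cast_mul, cq1, c1]⟩
    · exact ⟨_, wChar_isIrr h E,
        by rw [(wChar_values h E).1, Nat.cast_mul, cq1]; push_cast; rfl⟩

end CfsgLib.Suzuki
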